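import Cfsg.Agent.Lib.Fischer.Fi24Simple.Flags
import Cfsg.Agent.Lib.Fischer.Cent23.Embed

/-!
# The subgroup Fi23
-/

set_option autoImplicit false
set_option linter.unusedSectionVars false
set_option maxRecDepth 100000

namespace Cfsg.Lib.Fischer.Fi24Simple

open Cfsg Cfsg.Spor Cfsg.Lib.CosetEnum Cfsg.Lib.CosetEnum.Fi22Two Cfsg.Lib.CosetEnum.Fi22Mult
open Cfsg.Lib.Fischer Cfsg.Lib.Fischer.Cent23
open Cfsg.Lib.Fischer.M23 (adjB)

variable {G : Type*} [Group G] [Finite G] {C : Subgroup G} {t t2 k0 : G} {Q : Type*} [Group Q] [Finite Q] {E : Set Q}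
  {π : ↥C →* Q} {z : ↥C}

set_option maxHeartbeats 1000000 in
/-- The tenth member. -/
theorem exists_tenthC (H : Flag C t t2 k0 E π z) (V : View C t2 E π z) {y : ℕ → G} (N : NineC C t t2 y) :
    ∃ w : G, w * w = 1 ∧ (∀ g < 9, g ≠ 6 → Commute (y g) w) ∧ (y 6 * w) ^ 3 = 1 := by
  -- the view from the first
  obtain ⟨c0, hc0, e0⟩ := (N.member 0 (by norm_num)).1
  obtain ⟨k, hkdef⟩ : ∃ k, k = c0 * k0 := ⟨_, rfl⟩
  have hk : k * t * k⁻¹ = y 0 := by
    rw [hkdef, show c0 * k0 * t * (c0 * k0)⁻¹ = c0 * (k0 * t * k0⁻¹) * c0⁻¹ by group, H.move, e0]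
  have hseen : ∀ g, ∃ q, 2 ≤ g → g < 9 → V.pt k q = y g := fun g => by
    by_cases hg : 2 ≤ g ∧ g < 9
    · obtain ⟨q, hq⟩ := V.exists_pt (hkdef ▸ H.triangle_at hc0 (N.member g hg.2).1
        (by rw [e0]; exact (N.adj g hg.2 0 (by norm_num)).2 (by omega))
        (by rw [e0]; exact (((N.adj g hg.2 0 (by norm_num)).1).2 (by
          revert hg; rintro ⟨h1, h2⟩; interval_cases g <;> decide))))
      exact ⟨q, fun _ _ => hq⟩
    · exact ⟨⟨0, by norm_num⟩, fun h1 h2 => absurd ⟨h1, h2⟩ hg⟩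
  choose q hq using hseen
  obtain ⟨tp, ht⟩ := V.exists_pt (hkdef ▸ H.back_at hc0 : t ∈ shift k (cls C t2))
  have cm : ∀ r, 2 ≤ r → r < 9 → ∀ s, 2 ≤ s → s < 9 → (Cm V.T (q r) (q s) ↔ adjB r s = false) :=
    fun r h1 h2 s h3 h4 => by
      rw [Cm, ← View.pt_commute V H (k := k), hq r h1 h2, hq s h3 h4, (N.adj r h2 s h4).1]
  have cmt : ∀ r, 2 ≤ r → r < 9 → Cm V.T (q r) tp := fun r h1 h2 => by
    rw [Cm, ← View.pt_commute V H (k := k), hq r h1 h2, ht]
    exact (N.member r h2).2.1
  have qne : ∀ r, 2 ≤ r → r < 9 → ∀ s, 2 ≤ s → s < 9 → r ≠ s → q r ≠ q s := fun r h1 h2 s h3 h4 hne e =>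
    (N.adj r h2 s h4).2 hne (by rw [← hq r h1 h2, ← hq s h3 h4, e])
  have yes : ∀ r s, 2 ≤ r → r < 9 → 2 ≤ s → s < 9 → adjB r s = false → Cm V.T (q r) (q s) :=
    fun r s h1 h2 h3 h4 h => (cm r h1 h2 s h3 h4).2 h
  have no : ∀ r s, 2 ≤ r → r < 9 → 2 ≤ s → s < 9 → adjB r s = true → ¬ Cm V.T (q r) (q s) :=
    fun r s h1 h2 h3 h4 h e => by rw [(cm r h1 h2 s h3 h4).1 e] at h; exact Bool.noConfusion h
  have hW : wordVal (fun g => V.T.A.delta (q g)) (List.replicate 9 [8, 7, 6, 5, 4, 3, 2]).flatten =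
      V.T.A.delta tp := by
    have e : wordVal (fun g => V.L.Y (q g)) wordRight = V.L.Y tp := by
      refine View.ψ_inj H k ?_
      rw [map_wordVal, show View.ψ k (V.L.Y tp) = t from ht]
      refine Eq.trans (val_congr fun g hg => ?_) N.right
      obtain ⟨h1, h2⟩ := (show ∀ g ∈ wordRight, 2 ≤ g ∧ g < 9 by decide +kernel) g hg
      exact hq g h1 h2
    have := congrArg π e
    rw [map_wordVal, V.L.proj] at this
    rw [← this]
    exact congrArg (fun f => wordVal f wordRight) (funext fun g => (V.L.proj _).symm)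
  obtain ⟨w, w2, w3, w4, w5, w6, w7, w8, wt⟩ := fork_fact V.T (c := q 2) (d := q 3) (e := q 4) (f := q 5)
    (g := q 6) (h := q 7) (i := q 8) (t := tp)
    ⟨no 2 3 (by norm_num) (by norm_num) (by norm_num) (by norm_num) (by decide),
      no 3 4 (by norm_num) (by norm_num) (by norm_num) (by norm_num) (by decide),
      no 4 5 (by norm_num) (by norm_num) (by norm_num) (by norm_num) (by decide),
      no 5 6 (by norm_num) (by norm_num) (by norm_num) (by norm_num) (by decide),
      yes 2 4 (by norm_num) (by norm_num) (by norm_num) (by norm_num) (by decide),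
      yes 2 5 (by norm_num) (by norm_num) (by norm_num) (by norm_num) (by decide),
      yes 2 6 (by norm_num) (by norm_num) (by norm_num) (by norm_num) (by decide),
      yes 3 5 (by norm_num) (by norm_num) (by norm_num) (by norm_num) (by decide),
      yes 3 6 (by norm_num) (by norm_num) (by norm_num) (by norm_num) (by decide),
      yes 4 6 (by norm_num) (by norm_num) (by norm_num) (by norm_num) (by decide)⟩
    ⟨qne 2 (by norm_num) (by norm_num) 4 (by norm_num) (by norm_num) (by norm_num),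
      qne 2 (by norm_num) (by norm_num) 5 (by norm_num) (by norm_num) (by norm_num),
      qne 2 (by norm_num) (by norm_num) 6 (by norm_num) (by norm_num) (by norm_num),
      qne 3 (by norm_num) (by norm_num) 5 (by norm_num) (by norm_num) (by norm_num),
      qne 3 (by norm_num) (by norm_num) 6 (by norm_num) (by norm_num) (by norm_num),
      qne 4 (by norm_num) (by norm_num) 6 (by norm_num) (by norm_num) (by norm_num)⟩
    ⟨yes 2 7 (by norm_num) (by norm_num) (by norm_num) (by norm_num) (by decide),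
      no 3 7 (by norm_num) (by norm_num) (by norm_num) (by norm_num) (by decide),
      yes 4 7 (by norm_num) (by norm_num) (by norm_num) (by norm_num) (by decide),
      yes 5 7 (by norm_num) (by norm_num) (by norm_num) (by norm_num) (by decide),
      yes 6 7 (by norm_num) (by norm_num) (by norm_num) (by norm_num) (by decide)⟩
    ⟨yes 2 8 (by norm_num) (by norm_num) (by norm_num) (by norm_num) (by decide),
      yes 3 8 (by norm_num) (by norm_num) (by norm_num) (by norm_num) (by decide),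
      yes 4 8 (by norm_num) (by norm_num) (by norm_num) (by norm_num) (by decide),
      yes 5 8 (by norm_num) (by norm_num) (by norm_num) (by norm_num) (by decide),
      yes 6 8 (by norm_num) (by norm_num) (by norm_num) (by norm_num) (by decide),
      no 7 8 (by norm_num) (by norm_num) (by norm_num) (by norm_num) (by decide)⟩
    ⟨cmt 2 (by norm_num) (by norm_num), cmt 3 (by norm_num) (by norm_num), cmt 4 (by norm_num) (by norm_num),
      cmt 5 (by norm_num) (by norm_num), cmt 6 (by norm_num) (by norm_num), cmt 7 (by norm_num) (by norm_num),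
      cmt 8 (by norm_num) (by norm_num)⟩
    (fun g => V.T.A.delta (q g)) ⟨rfl, rfl, rfl, rfl, rfl, rfl, rfl⟩ hW
  refine ⟨V.pt k w, ?_, ?_, ?_⟩
  · show View.ψ k (V.L.Y w) * View.ψ k (V.L.Y w) = 1
    rw [← map_mul, V.L.sq, map_one]
  rotate_left
  · rw [← hq 6 (by norm_num) (by norm_num)]
    exact View.pt_braid V H fun e => w6 ((View.pt_commute V H).1 e)
  have far : ∀ g, 2 ≤ g → g < 9 → g ≠ 6 → Commute (y g) (V.pt k w) := fun g h1 h2 h6 => by
    rw [← hq g h1 h2, View.pt_commute V H]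
    interval_cases g
    exacts [w2, w3, w4, w5, absurd rfl h6, w7, w8]
  have w0 : Commute (y 0) (V.pt k w) := by
    rw [← hk]
    exact ((H.comm_t (V.L.Y w).2).symm.map (MulAut.conj k).toMonoidHom : _)
  have hwd : ¬ Commute t (V.pt k w) := fun e => wt (by rw [Cm, ← View.pt_commute V H (k := k), ht]; exact e)
  -- the view from the last
  obtain ⟨c8, hc8, e8⟩ := (N.member 8 (by norm_num)).1
  obtain ⟨k', hk'def⟩ : ∃ k', k' = c8 * k0 := ⟨_, rfl⟩
  have hk' : k' * t * k'⁻¹ = y 8 := by
    rw [hk'def, show c8 * k0 * t * (c8 * k0)⁻¹ = c8 * (k0 * t * k0⁻¹) * c8⁻¹ by group, H.move, e8]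
  have hseen' : ∀ g, ∃ r, g < 7 → V.pt k' r = y g := fun g => by
    by_cases hg : g < 7
    · obtain ⟨r, hr⟩ := V.exists_pt (hk'def ▸ H.triangle_at hc8 (N.member g (by omega)).1
        (by rw [e8]; exact (N.adj g (by omega) 8 (by norm_num)).2 (by omega))
        (by rw [e8]; exact ((N.adj g (by omega) 8 (by norm_num)).1).2 (by interval_cases g <;> decide)))
      exact ⟨r, fun _ => hr⟩
    · exact ⟨⟨0, by norm_num⟩, fun h => absurd h hg⟩
  choose r hr using hseen'
  have hback : t ∈ shift k' (cls C t2) := hk'def ▸ H.back_at hc8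
  obtain ⟨tp', ht'⟩ := V.exists_pt hback
  -- the view of the last through the first
  obtain ⟨c', hc', ec'⟩ := (V.mem_iff (V.L.Y (q 8) : G)).2 ⟨_, rfl⟩
  have hkk : k * (c' * k0) * t * (k * (c' * k0))⁻¹ = k' * t * k'⁻¹ := by
    rw [hk', ← hq 8 (by norm_num) (by norm_num),
      show k * (c' * k0) * t * (k * (c' * k0))⁻¹ = k * (c' * (k0 * t * k0⁻¹) * c'⁻¹) * k⁻¹ by group, H.move, ec']
    rfl
  have via : ∀ p, Commute (V.pt k p) (y 8) → V.pt k p ≠ y 8 → V.pt k p ∈ shift (k * (c' * k0)) (cls C t2) := by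
    intro p hc hne
    rw [← shift_shift]
    refine conj_mem_shift (H.triangle_at hc' ((V.mem_iff _).2 ⟨p, rfl⟩) (fun e => hne ?_) ?_)
    · rw [← hq 8 (by norm_num) (by norm_num)]
      show k * (V.L.Y p : G) * k⁻¹ = k * (V.L.Y (q 8) : G) * k⁻¹
      rw [show (V.L.Y p : G) = c' * t2 * c'⁻¹ from e, ec']
    · rw [ec']
      rw [← hq 8 (by norm_num) (by norm_num)] at hc
      exact (Commute.conj_iff k).1 hc
  have hsame := H.same hkk (ht ▸ via tp (by rw [ht]; exact (N.member 8 (by norm_num)).2.1.symm)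
    (by rw [ht]; exact (N.member 8 (by norm_num)).2.2.symm)) hback
  obtain ⟨w', hw'⟩ := V.exists_pt (k := k') (x := V.pt k w) (hsame ▸ via w (far 8 (by norm_num) (by norm_num) (by norm_num)).symm
    (fun e => hwd (e ▸ (N.member 8 (by norm_num)).2.1.symm)))
  have cm' : ∀ a b, a < 7 → b < 7 → adjB a b = false → Cm V.T (r a) (r b) := fun a b h1 h2 h => by
    rw [Cm, ← View.pt_commute V H (k := k'), hr a h1, hr b h2]
    exact ((N.adj a (by omega) b (by omega)).1).2 h
  have ncm' : ∀ a b, a < 7 → b < 7 → adjB a b = true → ¬ Cm V.T (r a) (r b) := fun a b h1 h2 h e => by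
    rw [Cm, ← View.pt_commute V H (k := k'), hr a h1, hr b h2, (N.adj a (by omega) b (by omega)).1] at e
    rw [e] at h
    exact Bool.noConfusion h
  have rne : ∀ a b, a < 7 → b < 7 → a ≠ b → r a ≠ r b := fun a b h1 h2 hne e =>
    (N.adj a (by omega) b (by omega)).2 hne (by rw [← hr a h1, ← hr b h2, e])
  have cmt' : ∀ a, a < 7 → Cm V.T (r a) tp' := fun a h1 => by
    rw [Cm, ← View.pt_commute V H (k := k'), hr a h1, ht']
    exact (N.member a (by omega)).2.1
  have cmw : ∀ a, a < 7 → Commute (y a) (V.pt k w) → Cm V.T (r a) w' := fun a h1 h => by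
    rw [Cm, ← View.pt_commute V H (k := k'), hr a h1, hw']
    exact h
  have h1w : Cm V.T (r 1) w' := chain_fact V.T (a := r 0) (b := r 1) (c := r 2) (d := r 3) (e := r 4) (f := r 5)
    (g := r 6) (t := tp') (w := w')
    ⟨ncm' 2 3 (by norm_num) (by norm_num) (by decide), ncm' 3 4 (by norm_num) (by norm_num) (by decide),
      ncm' 4 5 (by norm_num) (by norm_num) (by decide), ncm' 5 6 (by norm_num) (by norm_num) (by decide),
      cm' 2 4 (by norm_num) (by norm_num) (by decide), cm' 2 5 (by norm_num) (by norm_num) (by decide),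
      cm' 2 6 (by norm_num) (by norm_num) (by decide), cm' 3 5 (by norm_num) (by norm_num) (by decide),
      cm' 3 6 (by norm_num) (by norm_num) (by decide), cm' 4 6 (by norm_num) (by norm_num) (by decide)⟩
    ⟨rne 2 4 (by norm_num) (by norm_num) (by norm_num), rne 2 5 (by norm_num) (by norm_num) (by norm_num),
      rne 2 6 (by norm_num) (by norm_num) (by norm_num), rne 3 5 (by norm_num) (by norm_num) (by norm_num),
      rne 3 6 (by norm_num) (by norm_num) (by norm_num), rne 4 6 (by norm_num) (by norm_num) (by norm_num)⟩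
    ⟨cm' 2 0 (by norm_num) (by norm_num) (by decide), cm' 3 0 (by norm_num) (by norm_num) (by decide),
      cm' 4 0 (by norm_num) (by norm_num) (by decide), cm' 5 0 (by norm_num) (by norm_num) (by decide),
      cm' 6 0 (by norm_num) (by norm_num) (by decide)⟩
    ⟨ncm' 2 1 (by norm_num) (by norm_num) (by decide), cm' 3 1 (by norm_num) (by norm_num) (by decide),
      cm' 4 1 (by norm_num) (by norm_num) (by decide), cm' 5 1 (by norm_num) (by norm_num) (by decide),
      cm' 6 1 (by norm_num) (by norm_num) (by decide), ncm' 1 0 (by norm_num) (by norm_num) (by decide)⟩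
    ⟨cmt' 2 (by norm_num), cmt' 3 (by norm_num), cmt' 4 (by norm_num), cmt' 5 (by norm_num), cmt' 6 (by norm_num),
      cmt' 0 (by norm_num), cmt' 1 (by norm_num)⟩
    ⟨cmw 2 (by norm_num) (far 2 (by norm_num) (by norm_num) (by norm_num)),
      cmw 3 (by norm_num) (far 3 (by norm_num) (by norm_num) (by norm_num)),
      cmw 4 (by norm_num) (far 4 (by norm_num) (by norm_num) (by norm_num)),
      cmw 5 (by norm_num) (far 5 (by norm_num) (by norm_num) (by norm_num)),
      fun e => w6 (by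
        rw [Cm, ← View.pt_commute V H (k := k), hq 6 (by norm_num) (by norm_num)]
        rw [Cm, ← View.pt_commute V H (k := k'), hr 6 (by norm_num), hw'] at e
        exact e),
      cmw 0 (by norm_num) w0,
      fun e => hwd (by rw [Cm, ← View.pt_commute V H (k := k'), ht', hw'] at e; exact e)⟩
  intro g hg h6
  by_cases h2 : 2 ≤ g
  · exact far g h2 hg h6
  interval_cases g
  · exact w0
  · rw [← hr 1 (by norm_num), ← hw', View.pt_commute V H]
    exact h1w

/-- The subgroup. -/
theorem exists_sub23 (H : Flag C t t2 k0 E π z) : ∃ ι : Cfsg.Spor.Fi23 →* G, Function.Injective ι ∧ ι delta23 = t ∧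
    C ≤ ι.range ∧ (∃ u, IsConj delta23 u ∧ ι u = t2) := by
  classical
  obtain ⟨V⟩ := exists_view_data H
  obtain ⟨y, N⟩ := exists_nineC H V
  obtain ⟨w, hw2', hcomm, hbraid⟩ := exists_tenthC H V N
  have hy0 : y 0 ≠ 1 := fun e => by
    obtain ⟨p, hp⟩ := (V.mem_iff _).1 (N.member 0 (by norm_num)).1
    have h1 : V.L.Y p = 1 := Subtype.ext (hp.trans e)
    have := H.cls3.1.1 _ (View.delta_mem V H p)
    rw [← V.L.proj, h1, map_one, orderOf_one] at this
    omega
  obtain ⟨Y, hYdef⟩ : ∃ Y : ℕ → G,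
      Y = fun n => if n = 7 then w else if n < 7 then y n else y (n - 1) := ⟨_, rfl⟩
  have hY : ∀ g < 9, Y (to23 g) = y g := by
    intro g hg; rw [hYdef]; interval_cases g <;> simp [to23]
  have hY7 : Y 7 = w := by rw [hYdef]; simp
  have hw2 := hw2'
  have hYsq : ∀ n, Y n * Y n = 1 := fun n => by
    rw [hYdef]; dsimp only; split_ifs; exacts [hw2, N.sq _, N.sq _]
  have hmap : ∀ r : List ℕ, (∀ g ∈ r, g < 9) → wordVal Y (r.map to23) = wordVal y r := fun r hr => by
    rw [← val_map Y to23 (by decide) hr]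
    exact val_congr fun g hg => hY g (hr g hg)
  have hlt : ∀ r ∈ Fi22Pres.numbering.pairs ++ Fi22Pres.extra, ∀ g ∈ r, g < 9 := by decide +kernel
  have hm : ∀ i < 2, Fi22Pres.extra.getD i [] ∈ Fi22Pres.extra := by decide +kernel
  have rep : ∀ a b m, a < 10 → b < 10 → wordVal Y (List.replicate m [b, a]).flatten = (Y a * Y b) ^ m :=
    fun a b m ha hb => wordVal_replicate Y a b (by simp only [eps]; omega) (by simp only [eps]; omega) m
  have hinv : ∀ n, (Y n)⁻¹ = Y n := fun n => inv_eq_of_mul_eq_one_left (hYsq n)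
  have hrel : ∀ r ∈ Fi23Pres.numbering.pairs ++ Fi23Pres.extra, wordVal Y r = 1 := by
    intro r hr
    rcases List.mem_append.1 hr with hr | hr
    · rcases pairs23 r hr with h | rfl | rfl | rfl | ⟨g, hg, h⟩
      · obtain ⟨s, hs, rfl⟩ := List.mem_map.1 h
        rw [hmap s (hlt s (List.mem_append_left _ hs)), N.pairs s hs]
      · rw [show [7, 7] = (List.replicate 1 [7, 7]).flatten from rfl, rep 7 7 1 (by norm_num) (by norm_num),
          pow_one, hYsq]
      · rw [rep 6 7 3 (by norm_num) (by norm_num), show Y 6 = y 6 from hY 6 (by norm_num), hY7, hbraid]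
      · rw [rep 7 6 3 (by norm_num) (by norm_num), ← inv_inv ((Y 7 * Y 6) ^ 3), ← inv_pow, mul_inv_rev, hinv,
          hinv, show Y 6 = y 6 from hY 6 (by norm_num), hY7, hbraid, inv_one]
      · obtain ⟨g', hg', hg6, rfl⟩ : ∃ g' < 9, g' ≠ 6 ∧ to23 g' = g :=
          (show ∀ g ∈ [0, 1, 2, 3, 4, 5, 8, 9], ∃ g' < 9, g' ≠ 6 ∧ to23 g' = g by decide) g hg
        have hc : Commute (Y (to23 g')) (Y 7) := by rw [hY g' hg', hY7]; exact hcomm g' hg' hg6
        have hg10 : to23 g' < 10 := (show ∀ a < 9, to23 a < 10 by decide) g' hg'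
        rcases h with rfl | rfl
        · rw [rep 7 _ 2 (by norm_num) hg10, hc.symm.mul_pow, pow_two, pow_two, hYsq, hYsq, one_mul]
        · rw [rep _ 7 2 hg10 (by norm_num), hc.mul_pow, pow_two, pow_two, hYsq, hYsq, one_mul]
    · rw [extra23, List.mem_cons, List.mem_singleton] at hr
      rcases hr with rfl | rfl
      · rw [hmap _ (hlt _ (List.mem_append_right _ (hm 0 (by norm_num)))), N.extra0]
      · rw [hmap _ (hlt _ (List.mem_append_right _ (hm 1 (by norm_num)))), N.extra1]
  have hlift := Fi23Pres.numbering.lift_eq_one (by decide) Y (Fi23Pres.map_extra Y hYsq) hrel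
  let Φ : Cfsg.Spor.Fi23 →* G := PresentedGroup.toGroup hlift
  have hΦ : ∀ n < 10, Φ (x23 n) = Y n := fun n hn => by
    rw [x23, Numbering.gens, if_pos (show n < Fi23Pres.numbering.k from hn)]
    show PresentedGroup.toGroup hlift (PresentedGroup.of (Fi23Pres.numbering.letter n)) = _
    rw [PresentedGroup.toGroup.of, Fi23Pres.numbering.num_letter n hn]
  have hinj : Function.Injective Φ := by
    have := fi23_facts.2.1
    rw [← MonoidHom.ker_eq_bot_iff]
    refine Φ.normal_ker.eq_bot_or_eq_top.resolve_right fun h => ?_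
    have h0 : Φ (x23 0) = 1 := Φ.mem_ker.1 (h ▸ Subgroup.mem_top _)
    rw [hΦ 0 (by norm_num), show Y 0 = y 0 from hY 0 (by norm_num)] at h0
    exact hy0 h0
  have hW : wordVal x23 (wordRight.map to23) = delta23 := by
    have hsw := swap_rels
    simp only [Bool.and_eq_true, isOne, isCentre] at hsw
    obtain ⟨⟨⟨⟨⟨⟨-, -⟩, -⟩, sW⟩, -⟩, -⟩, -⟩ := hsw
    exact same23 sW
  have hdelta : Φ delta23 = t := by
    rw [← hW, map_wordVal, val_congr (a := fun n => Φ (x23 n)) (b := Y)
      fun n hn => hΦ n ((show ∀ n ∈ wordRight.map to23, n < 10 by decide +kernel) n hn),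
      hmap wordRight (by decide +kernel), N.right]
  have hle : C ≤ Φ.range := by
    refine N.gen.trans ((Subgroup.closure_le _).2 ?_)
    rintro _ ⟨g, hg, rfl⟩
    exact ⟨x23 (to23 g), by rw [hΦ _ ((show ∀ a < 9, to23 a < 10 by decide) g hg), hY g hg]⟩
  refine ⟨Φ, hinj, hdelta, hle, ?_⟩
  obtain ⟨c, hc, ec⟩ := (N.member 0 (by norm_num)).1
  obtain ⟨v, hv⟩ := hle hc
  refine ⟨v⁻¹ * x23 0 * v, gen_conj23.trans (isConj_iff.2 ⟨v⁻¹, by group⟩), ?_⟩
  rw [map_mul, map_mul, map_inv, hv, hΦ 0 (by norm_num), show Y 0 = y 0 from hY 0 (by norm_num), ← ec]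
  group

end Cfsg.Lib.Fischer.Fi24Simple
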