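import Cfsg.Agent.Lib.FischerLarge.Fi22Part.Part
import Cfsg.Agent.Lib.FischerLarge.Fi22Part.Aut
import Cfsg.Agent.Lib.Fischer.Fi24Simple.Sub23
import Cfsg.Agent.Lib.Fischer.Cent24.FromCentre

/-!
# The double cover and the exchange of a large Fischer type
-/

set_option autoImplicit false
set_option maxRecDepth 100000

namespace Cfsg.Lib.Fischer.Fi24Simple

open Cfsg Cfsg.Lib.SUSixU43 Cfsg.Lib.FischerLarge Cfsg.Lib.Extra

universe u

variable {G : Type u} [Group G] [Finite G] {z : G} {Q : Subgroup G} {D : Coord z Q} {t t2 : G} {X1 : Subgroup G} {o : G}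

set_option maxHeartbeats 800000 in
/-- The facts at the image of the second involution. -/
theorem facts_at (h : D.Duo t t2) (H : h.IsHalf X1 o) {g₀ s₀ : G} (hw : D.Wit g₀ s₀) {W : Type*} [Group W]
    (q : ↥X1 →* W) (hqs : Function.Surjective q) (hqk : ∀ a : ↥X1, q a = 1 ↔ (a : G) = 1 ∨ (a : G) = t) :
    orderOf (q ⟨t2, H.pair_le h.t2_mem⟩) = 2 ∧
      Cfsg.IsQuasisimple ↥(Subgroup.centralizer ({q ⟨t2, H.pair_le h.t2_mem⟩} : Set W)) ∧
      (∃ _ : ((Subgroup.zpowers (q ⟨t2, H.pair_le h.t2_mem⟩)).subgroupOf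
          (Subgroup.centralizer ({q ⟨t2, H.pair_le h.t2_mem⟩} : Set W))).Normal,
        Nonempty (↥(Subgroup.centralizer ({q ⟨t2, H.pair_le h.t2_mem⟩} : Set W)) ⧸
          (Subgroup.zpowers (q ⟨t2, H.pair_le h.t2_mem⟩)).subgroupOf
            (Subgroup.centralizer ({q ⟨t2, H.pair_le h.t2_mem⟩} : Set W)) ≃* Cfsg.PSU 6 R4 2)) ∧
      ∃ g, g * q ⟨t2, H.pair_le h.t2_mem⟩ * g⁻¹ ∈ Subgroup.centralizer ({q ⟨t2, H.pair_le h.t2_mem⟩} : Set W) ∧
        g * q ⟨t2, H.pair_le h.t2_mem⟩ * g⁻¹ ≠ q ⟨t2, H.pair_le h.t2_mem⟩ := by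
  obtain ⟨hq, hcen, ⟨ePSU⟩, hcard⟩ := h.cover hw
  haveI : Finite W := Finite.of_surjective q hqs
  have hqe : ∀ {a b : ↥X1}, q a = q b ↔ (b : G) = a ∨ (b : G) = a * t := fun {a b} => by
    have h1 := hqk (a⁻¹ * b)
    rw [map_mul, map_inv, inv_mul_eq_one] at h1
    push_cast at h1
    rw [h1, inv_mul_eq_one, inv_mul_eq_iff_eq_mul]
    exact or_congr_left eq_comm
  obtain ⟨n2, -⟩ := And.intro (H.pair_le h.t2_mem) trivial
  obtain ⟨b, hb⟩ : ∃ b : ↥X1, b = ⟨t2, n2⟩ := ⟨_, rfl⟩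
  have hbG : (b : G) = t2 := by rw [hb]
  obtain ⟨d, hd⟩ : ∃ d : W, d = q b := ⟨_, rfl⟩
  obtain ⟨dt, dt2, dt3, dne, dne', dne''⟩ := h.four_distinct
  have hd1 : d ≠ 1 := by
    rw [hd, ← map_one q, Ne, hqe]
    push_cast
    rw [hbG]
    rintro (e | e)
    · exact dt2 e.symm
    · exact dt3 e.symm
  have hdd : d * d = 1 := by
    rw [hd, ← map_mul, show b * b = 1 from Subtype.ext (by push_cast; rw [hbG, h.sq2]),
      map_one]
  have hord : orderOf d = 2 := orderOf_eq_prime (by rw [pow_two, hdd]) hd1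
  rw [← hb, ← hd]
  refine ⟨hord, ?_⟩
  have hdpow : ∀ w, w ∈ Subgroup.zpowers d ↔ w = 1 ∨ w = d := fun w => by
    refine ⟨fun hw' => ?_, ?_⟩
    · obtain ⟨k, rfl⟩ := Subgroup.mem_zpowers_iff.1 hw'
      rcases Int.even_or_odd k with ⟨j, rfl⟩ | ⟨j, rfl⟩
      · left; rw [← two_mul, zpow_mul, zpow_two, hdd, one_zpow]
      · right; rw [zpow_add_one, zpow_mul, zpow_two, hdd, one_zpow, one_mul]
    · rintro (rfl | rfl)
      exacts [one_mem _, Subgroup.mem_zpowers _]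
  -- the centraliser is the image of the pair
  obtain ⟨CD, hCD⟩ : ∃ CD, CD = Subgroup.centralizer ({d} : Set W) :=
    ⟨_, rfl⟩
  let φ : ↥(pairCent t t2) →* ↥CD :=
    (q.comp (Subgroup.inclusion H.pair_le)).codRestrict CD
      fun x => by
        rw [hCD, Subgroup.mem_centralizer_singleton_iff, hd]
        show q _ * _ = _ * q _
        rw [← map_mul, ← map_mul]
        refine congrArg q (Subtype.ext ?_)
        push_cast
        rw [hbG]
        exact (mem_pairCent.1 x.2).2.eq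
  have hφv : ∀ x : ↥(pairCent t t2), (φ x : W) =
      q (⟨x, H.pair_le x.2⟩ : ↥X1) := fun x => rfl
  have hφs : Function.Surjective φ := by
    rintro ⟨w, hw'⟩
    obtain ⟨y, rfl⟩ := hqs w
    rw [hCD, Subgroup.mem_centralizer_singleton_iff, hd, ← map_mul, ← map_mul,
      hqe] at hw'
    push_cast at hw'
    rw [hbG] at hw'
    have hyt : Commute (y : G) t := commute_of_mem_cent (H.le y.2)
    have hk : (y : G) * t2 * (y : G)⁻¹ = t2 ∨ (y : G) * t2 * (y : G)⁻¹ = t2 * t := by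
      rcases hw' with e | e
      · exact Or.inl (by rw [← e, mul_inv_cancel_right])
      · refine Or.inr (mul_inv_eq_iff_eq_mul.2 ?_)
        rw [mul_assoc t2, ← hyt.eq, ← mul_assoc, e, mul_assoc ((y : G) * t2) t t, h.sqT, mul_one]
    exact ⟨⟨y, H.keep_in _ y.2 hk⟩, rfl⟩
  have hkerφ : ∀ x : ↥(pairCent t t2), φ x = 1 ↔ (x : G) = 1 ∨ (x : G) = t := fun x => by
    rw [Subtype.ext_iff, hφv, OneMemClass.coe_one, hqk]
  have hφne : φ.ker ≠ ⊤ := by
    intro e
    have h2 : (⟨t2, h.t2_mem⟩ : ↥(pairCent t t2)) ∈ φ.ker := e ▸ Subgroup.mem_top _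
    rcases (hkerφ _).1 h2 with e' | e'
    exacts [dt2 e', dne e'.symm]
  have hqCD : Cfsg.IsQuasisimple ↥CD := Cfsg.Lib.Sig.isQuasisimple_of_surjective hq φ hφs hφne
  have hnorm : ((Subgroup.zpowers d).subgroupOf CD).Normal := ⟨fun a ha g => by
    rw [Subgroup.mem_subgroupOf] at ha ⊢
    have hg : (g : W) * d = d * g :=
      Subgroup.mem_centralizer_singleton_iff.1 (hCD ▸ g.2)
    push_cast
    rcases (hdpow _).1 ha with e | e <;> rw [e]
    · exact (hdpow _).2 (Or.inl (by group))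
    · exact (hdpow _).2 (Or.inr (by rw [hg, mul_inv_cancel_right]))⟩
  have hkerψ : ((QuotientGroup.mk' ((Subgroup.zpowers d).subgroupOf CD)).comp φ).ker =
      Subgroup.center ↥(pairCent t t2) := by
    ext x
    rw [hcen, MonoidHom.mem_ker, MonoidHom.comp_apply, QuotientGroup.mk'_apply, QuotientGroup.eq_one_iff,
      Subgroup.mem_subgroupOf, hdpow, h.mem_four, hφv, hd, ← map_one q, hqe, hqe]
    push_cast
    rw [hbG]
    constructor
    · rintro ((e | e) | (e | e))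
      · exact Or.inl e.symm
      · refine Or.inr (Or.inl ?_)
        calc (x : G) = (x : G) * t * t := by rw [mul_assoc, h.sqT, mul_one]
          _ = t := by rw [← e, one_mul]
      · exact Or.inr (Or.inr (Or.inl e.symm))
      · refine Or.inr (Or.inr (Or.inr ?_))
        calc (x : G) = (x : G) * t * t := by rw [mul_assoc, h.sqT, mul_one]
          _ = t2 * t := by rw [← e]
    · rintro (e | e | e | e)
      · exact Or.inl (Or.inl e.symm)
      · exact Or.inl (Or.inr (by rw [e, h.sqT]))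
      · exact Or.inr (Or.inl e.symm)
      · exact Or.inr (Or.inr (by rw [e, mul_assoc, h.sqT, mul_one]))
  subst hCD
  refine ⟨hqCD, ⟨hnorm, ⟨(((QuotientGroup.quotientMulEquivOfEq hkerψ.symm).trans
    (QuotientGroup.quotientKerEquivOfSurjective _ ((QuotientGroup.mk'_surjective _).comp hφs))).symm).trans ePSU⟩⟩, ?_⟩
  -- another conjugate in the centraliser
  obtain ⟨g, hg, hg2⟩ := H.moved
  have hzp : z ∈ X1 := H.pair_le (mem_pairCent.2 ⟨h.commTz.symm, h.comm2z.symm⟩)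
  refine ⟨q ⟨g, hg⟩, ?_, fun e => ?_⟩
  · rw [Subgroup.mem_centralizer_singleton_iff, hd, ← map_inv, ← map_mul,
      ← map_mul, ← map_mul, ← map_mul]
    refine congrArg q (Subtype.ext ?_)
    push_cast
    rw [hbG]
    rcases hg2 with e | e <;> rw [e]
    · exact (h.comm2z.symm.mul_left (Commute.refl t2)).eq
    · exact (h.comm2z.symm.mul_left ((Commute.refl t2).mul_left h.comm)).eq
  · rw [hd, ← map_inv, ← map_mul, ← map_mul, hqe] at e
    push_cast at e
    rw [hbG] at e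
    rcases hg2 with e2 | e2 <;> rw [e2] at e <;> rcases e with e | e
    · exact (h.z_out t2 (Or.inl rfl)).1 e.symm
    · refine (h.z_out t2 (Or.inl rfl)).2 ?_
      calc z * t2 = z * t2 * t * t := by rw [mul_assoc (z * t2), h.sqT, mul_one]
        _ = t2 * t := by rw [← e]
    · exact (h.z_out (t2 * t) (Or.inr rfl)).1 e.symm
    · refine (h.z_out (t2 * t) (Or.inr rfl)).2 ?_
      calc z * (t2 * t) = z * (t2 * t) * t * t := by rw [mul_assoc (z * (t2 * t)), h.sqT, mul_one]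
        _ = t2 * t := by rw [← e]

open Cfsg.Lib.CosetEnum Cfsg.Lib.CosetEnum.Fi22Two
open Cfsg.Lib.Fischer Cfsg.Lib.Fischer.Cent23 Cfsg.Lib.Fischer.Relations

/-- The centraliser of the involution's cover inside a subgroup Fi23, with an element outside. -/
structure Big {G : Type*} [Group G] (C : Subgroup G) (t o t2 : G) (ι : Cfsg.Spor.Fi23 →* G) : Prop where
  inj : Function.Injective ι
  t_eq : ι delta23 = t
  lift : ∀ c ∈ C, ∃ u, ι u = c
  cent : ∀ u, Commute u delta23 → ι u ∈ C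
  comm : ∀ c ∈ C, Commute c t
  norm : ∀ g, Commute g t → ∀ c ∈ C, g * c * g⁻¹ ∈ C
  index : ∀ a b, Commute a t → Commute b t → a ∉ C → b ∉ C → a * b ∈ C
  pair : ∀ c, Commute c t → Commute c t2 → c ∈ C
  o_t : Commute o t
  o_out : o ∉ C
  o_t2 : o * t2 * o⁻¹ = t2 * t
  t2_mem : ∃ u, IsConj delta23 u ∧ ι u = t2
  t2_t : Commute t2 t
  t2_ne : t2 ≠ t
  perfect : commutator ↥(Subgroup.centralizer ({delta23} : Set Cfsg.Spor.Fi23)) = ⊤

/-- A perfect group mapped into the centraliser lands in the half. -/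
theorem perfect_into (h : D.Duo t t2) (H : h.IsHalf X1 o) {P : Type*} [Group P] (hp : commutator P = ⊤) (f : P →* G)
    (hf : ∀ p, Commute (f p) t) (p : P) : f p ∈ X1 := by
  have hc : ∀ p, f p ∈ Subgroup.centralizer ({t} : Set G) := fun p => mem_cent_of_commute (hf p)
  have key : commutator P ≤ X1.comap f := by
    rw [commutator_def, Subgroup.commutator_le]
    intro a _ b _
    rw [Subgroup.mem_comap, commutatorElement_def, map_mul, map_mul, map_mul, map_inv, map_inv]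
    by_cases ha : f a ∈ X1
    · rw [mul_assoc (f a) (f b), mul_assoc (f a)]
      exact mul_mem ha (H.conj _ (hc b) _ (inv_mem ha))
    by_cases hb : f b ∈ X1
    · exact mul_mem (H.conj _ (hc a) _ hb) (inv_mem hb)
    · have h2 := H.index _ (inv_mem (hc a)) _ (inv_mem (hc b)) (fun e => ha (inv_mem_iff.1 e))
        fun e => hb (inv_mem_iff.1 e)
      rw [mul_assoc (f a * f b)]
      exact mul_mem (H.index _ (hc a) _ (hc b) ha hb) h2
  exact key (hp ▸ Subgroup.mem_top p)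

theorem card_cent23 :
    Nat.card ↥(Subgroup.centralizer ({delta23} : Set Cfsg.Spor.Fi23)) = 2 * 64561751654400 := by
  have h23 := Cfsg.Agent.S1697.result.2
  have h1 := Subgroup.card_mul_index (Subgroup.centralizer ({delta23} : Set Cfsg.Spor.Fi23))
  have h2 : (Subgroup.centralizer ({delta23} : Set Cfsg.Spor.Fi23)).index = 31671 := by
    haveI := fi23_facts.1
    rw [← class23.2, Nat.card_coe_set_eq,
      show conjugatesOf delta23 = MulAction.orbit (ConjAct Cfsg.Spor.Fi23) delta23 by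
        ext u
        rw [ConjAct.mem_orbit_conjAct]
        exact ⟨IsConj.symm, IsConj.symm⟩,
      ← MulAction.index_stabilizer, Subgroup.centralizer_eq_comap_stabilizer]
    exact Subgroup.index_comap_of_surjective _ ConjAct.toConjAct.surjective
  rw [h2, h23] at h1
  omega

set_option maxHeartbeats 1000000 in
/-- The data of a large Fischer type. -/
theorem exists_big (D : Coord z Q) {g₀ s₀ : G} (hw : D.Wit g₀ s₀) :
    ∃ (C : Subgroup G) (t o t2 : G) (ι : Cfsg.Spor.Fi23 →* G), Big C t o t2 ι ∧ Commute t z := by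
  classical
  obtain ⟨v, hv⟩ := Set.nonempty_of_ncard_ne_zero (s := D.A) (by rw [D.orb.cardA]; norm_num)
  obtain ⟨t, htQ, htv⟩ := D.cl_surj v
  obtain ⟨t2, h⟩ := D.exists_duo htQ (htv ▸ hv)
  have h2 : D.Duo t2 (t2 * t) := ⟨h.t2Q, mul_mem h.t2Q h.tQ, h.A2, by
    rw [h.cl_mul, h.cl2, smul_smul, ← pow_two, tau_om.2.1]⟩
  obtain ⟨X1, o, H, g1, hg1, e1⟩ := Cent24.exists_half_moved h hw
  obtain ⟨X2, o2, H2, g2, hg2, e2⟩ := Cent24.exists_half_moved h2 hw
  have swap := fun {y : G} (hy : y ∈ X1) => h.swap_out hw H.le H.index H.o_mem H.o_out H.pair_le hy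
  have cT : ∀ {y : G}, y ∈ X1 → Commute y t := fun hy => commute_of_mem_cent (H.le hy)
  obtain ⟨dt, dt2, dt3, dne, dne', -⟩ := h.four_distinct
  have hg2t2 : g2 * t2 * g2⁻¹ = t2 := by rw [(commute_of_mem_cent (H2.le hg2)).eq, mul_inv_cancel_right]
  have hg2t : g2 * t * g2⁻¹ = z * (t2 * t) := by
    calc g2 * t * g2⁻¹ = g2 * t2 * g2⁻¹ * (g2 * (t2 * t) * g2⁻¹) := by
          rw [show g2 * t2 * g2⁻¹ * (g2 * (t2 * t) * g2⁻¹) = g2 * (t2 * t2 * t) * g2⁻¹ by group, h.sq2, one_mul]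
      _ = t2 * (z * (t2 * t * t2)) := by rw [hg2t2, e2]
      _ = z * (t2 * t) := by
          rw [mul_assoc t2 t t2, h.comm.eq, ← mul_assoc t2 t2 t, h.sq2, one_mul, ← mul_assoc, h.comm2z.eq, mul_assoc]
  obtain ⟨k0, hk0⟩ : ∃ k0, k0 = g1⁻¹ * g2 := ⟨_, rfl⟩
  have hmove : k0 * t * k0⁻¹ = t2 := by
    rw [hk0, show g1⁻¹ * g2 * t * (g1⁻¹ * g2)⁻¹ = g1⁻¹ * (g2 * t * g2⁻¹) * g1 by group, hg2t, ← e1]
    group
  -- the quotient
  haveI := h.half_normal H
  obtain ⟨q, hq⟩ : ∃ q, q = QuotientGroup.mk' ((Subgroup.zpowers t).subgroupOf X1) := ⟨_, rfl⟩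
  have hqs : Function.Surjective q := by rw [hq]; exact QuotientGroup.mk'_surjective _
  have hqk : ∀ a : ↥X1, q a = 1 ↔ (a : G) = 1 ∨ (a : G) = t := fun a => by
    rw [hq, QuotientGroup.mk'_apply, QuotientGroup.eq_one_iff, Subgroup.mem_subgroupOf, h.mem_zpowers_t]
  have hqe : ∀ {a b : ↥X1}, q a = q b → (b : G) = a ∨ (b : G) = a * t := fun {a b} e => by
    rcases (hqk (a⁻¹ * b)).1 (by rw [map_mul, map_inv, e, inv_mul_cancel]) with e' | e' <;> push_cast at e'
    · exact Or.inl (inv_mul_eq_one.1 e').symm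
    · exact Or.inr (inv_mul_eq_iff_eq_mul.1 e')
  obtain ⟨b, hb⟩ : ∃ b : ↥X1, b = ⟨t2, H.pair_le h.t2_mem⟩ := ⟨_, rfl⟩
  obtain ⟨hd, hqC, ⟨hn, ⟨e⟩⟩, hnwc⟩ := facts_at h H hw q hqs hqk
  obtain ⟨hcls, h22, ⟨eF⟩⟩ := FromCent.main _ hd hqC R4 card_r4 e hnwc
  rw [← hb] at hd hcls h22
  haveI : IsSimpleGroup Cfsg.Spor.Fi22 := Fi22Out.simple_fi22
  haveI : Nontrivial (↥X1 ⧸ (Subgroup.zpowers t).subgroupOf X1) := eF.toEquiv.nontrivial
  have hsimp : IsSimpleGroup (↥X1 ⧸ (Subgroup.zpowers t).subgroupOf X1) :=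
    IsSimpleGroup.isSimpleGroup_of_surjective eF.symm.toMonoidHom eF.symm.surjective
  have hcomm : ∀ y, y ∈ Subgroup.zpowers t → Commute y t := fun y hy => by
    rcases h.mem_zpowers_t.1 hy with e' | e' <;> rw [e']
    exact Commute.one_left _
  have hT := trans_of_class hcls
  have hprim : Cfsg.IsPrimitiveUnderConj (conjugatesOf (q b)) := by
    obtain ⟨hZ', d₁, hd₁, c₁, hc₁, hnc, -⟩ := id h22
    exact Relations.primitive_of_simple hT ⟨d₁, hd₁, c₁, hc₁, fun h => hnc (h ▸ Commute.refl d₁)⟩ hZ'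
  have hF : IsFischer (conjugatesOf (q b)) := by
    obtain ⟨F, _, _, hF, d₁, ⟨Cd⟩⟩ := m22_coord hT hprim h22
    exact Cd.fis
  -- the second involution's neighbours in the class
  obtain ⟨w, hw'⟩ : ∃ w, w = z * (t2 * t) := ⟨_, rfl⟩
  have hwL : w ∈ cls X1 t2 := ⟨g1, hg1, hw' ▸ e1⟩
  have hwc : Commute w t2 := hw' ▸ h.comm2z.symm.mul_left ((Commute.refl t2).mul_left h.comm)
  have hwne : w ≠ t2 := hw' ▸ (h.z_out (t2 * t) (Or.inr rfl)).1
  have notT : ∀ {a c : G}, a ∈ X1 → c ∈ X1 → a * t2 * a⁻¹ ≠ c * t2 * c⁻¹ * t := fun {a c} ha hc e' =>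
    swap (mul_mem (inv_mem hc) ha) (by
      rw [show c⁻¹ * a * t2 * (c⁻¹ * a)⁻¹ = c⁻¹ * (a * t2 * a⁻¹) * c by group, e',
        show c⁻¹ * (c * t2 * c⁻¹ * t) * c = t2 * (c⁻¹ * (t * c)) by group, ← (cT hc).eq, inv_mul_cancel_left])
  have hperp : ∀ {y : G}, y ∈ cls X1 t2 → y ≠ t2 → Commute y t2 →
      ∃ hy : y ∈ X1, q ⟨y, hy⟩ ∈ perp (conjugatesOf (q b)) (q b) := by
    rintro y ⟨a, ha, rfl⟩ hne hc
    refine ⟨mul_mem (mul_mem ha (H.pair_le h.t2_mem)) (inv_mem ha), ?_, fun e' => ?_, ?_⟩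
    · refine isConj_iff.2 ⟨q ⟨a, ha⟩, ?_⟩
      rw [← map_inv, ← map_mul, ← map_mul, hb]
      rfl
    · rcases hqe e' with e'' | e'' <;> rw [hb] at e''
      · exact hne e''.symm
      · refine swap ha ?_
        rw [show a * t2 * a⁻¹ = a * t2 * a⁻¹ * t * t by rw [mul_assoc _ t t, h.sqT, mul_one]]
        exact congrArg (· * t) e''.symm
    · rw [hb]
      refine Commute.map (?_ : Commute (⟨t2, _⟩ : ↥X1) ⟨a * t2 * a⁻¹, _⟩) q
      exact Subtype.ext hc.symm.eq
  have htri : ∀ y ∈ cls X1 t2, y ≠ t2 → Commute y t2 → ∃ p ∈ pairCent t t2, p * y * p⁻¹ = w := by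
    intro y hy hne hc
    obtain ⟨hy', hyp⟩ := hperp hy hne hc
    obtain ⟨hw'', hwp⟩ := hperp hwL hwne hwc
    obtain ⟨g, hg, eg⟩ := perp_transitive hF (mem_conjugatesOf_self) hyp hwp
    have hgc : Commute g (q b) :=
      commute_of_mem_closure hF mem_conjugatesOf_self (Subgroup.closure_mono (Set.subset_insert _ _) hg)
    obtain ⟨c, rfl⟩ := hqs g
    have hcp : (c : G) ∈ pairCent t t2 := by
      refine H.keep_in _ c.2 ?_
      have e' : q b = q (c * b * c⁻¹) := by rw [map_mul, map_mul, map_inv, hgc.eq, mul_inv_cancel_right]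
      rcases hqe e' with e'' | e'' <;> push_cast at e'' <;> rw [hb] at e''
      exacts [Or.inl e'', Or.inr e'']
    refine ⟨c, hcp, ?_⟩
    have e' : q ⟨w, hw''⟩ = q (c * ⟨y, hy'⟩ * c⁻¹) := by rw [map_mul, map_mul, map_inv, eg]
    rcases hqe e' with e'' | e'' <;> push_cast at e''
    · exact e''
    · exfalso
      obtain ⟨a, ha, rfl⟩ := hy
      obtain ⟨c', hc', ec⟩ := hwL
      refine notT (mul_mem c.2 ha) hc' ?_
      rw [ec, ← e'']
      group
  -- shifting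
  have hin : ∀ {p : G}, k0⁻¹ * p * k0 ∈ X1 → ∀ {v : G}, v ∈ shift k0 (cls X1 t2) →
      p * v * p⁻¹ ∈ shift k0 (cls X1 t2) := by
    rintro p hp v ⟨c, hc, ec⟩
    refine ⟨k0⁻¹ * p * k0 * c, mul_mem hp hc, ?_⟩
    rw [show k0⁻¹ * (p * v * p⁻¹) * k0 = k0⁻¹ * p * k0 * (k0⁻¹ * v * k0) * (k0⁻¹ * p * k0)⁻¹ by group, ← ec]
    group
  have hmove' : k0⁻¹ * t2 * k0 = t := by rw [← hmove]; group
  have hpull : ∀ {p : G}, Commute p t2 → Commute ((MulAut.conj k0⁻¹).toMonoidHom p) t := fun {p} hp => by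
    have := hp.map (MulAut.conj k0⁻¹).toMonoidHom
    rwa [show (MulAut.conj k0⁻¹).toMonoidHom t2 = t by
      show k0⁻¹ * t2 * k0⁻¹⁻¹ = t; rw [inv_inv, hmove']] at this
  have hpairC : ∀ p ∈ pairCent t t2, k0⁻¹ * p * k0 ∈ X1 := fun p hp => by
    have := perfect_into h H (h.cover hw).1.1.commutator_eq_top
      ((MulAut.conj k0⁻¹).toMonoidHom.comp (pairCent t t2).subtype) (fun p => hpull (mem_pairCent.1 p.2).2) ⟨p, hp⟩
    simpa using this
  have hX2 : ∀ p ∈ X2, k0⁻¹ * p * k0 ∈ X1 := fun p hp => by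
    have := perfect_into h H (h2.half_quasisimple H2 hw).1.commutator_eq_top
      ((MulAut.conj k0⁻¹).toMonoidHom.comp X2.subtype) (fun p => hpull (commute_of_mem_cent (H2.le p.2))) ⟨p, hp⟩
    simpa using this
  -- the neighbour between
  have hw2 : w ∈ shift k0 (cls X1 t2) := by
    obtain ⟨y, hy⟩ : ∃ y, y = g1⁻¹ * t2 * g1 := ⟨_, rfl⟩
    have hyL : y ∈ cls X1 t2 := ⟨g1⁻¹, inv_mem hg1, by rw [hy]; group⟩
    have hyne : y ≠ t2 := fun e' => hwne (by
      rw [hw', ← e1]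
      conv_lhs => rw [← e', hy]
      group)
    have hyc : Commute y t2 := by
      rw [← Commute.conj_iff g1, hy, show g1 * (g1⁻¹ * t2 * g1) * g1⁻¹ = t2 by group, e1, ← hw']
      exact hwc.symm
    obtain ⟨p, hp, ep⟩ := htri y hyL hyne hyc
    rw [← ep]
    refine hin (hpairC p hp) ?_
    rw [show y = k0 * t2 * k0⁻¹ by
      rw [hy, hk0, show g1⁻¹ * g2 * t2 * (g1⁻¹ * g2)⁻¹ = g1⁻¹ * (g2 * t2 * g2⁻¹) * g1 by group, hg2t2]]
    exact conj_mem_shift ⟨1, one_mem _, by group⟩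
  have hback : t ∈ shift k0 (cls X1 t2) := by
    have := hin (hX2 _ (inv_mem hg2)) hw2
    rwa [hw', ← hg2t, show g2⁻¹ * (g2 * t * g2⁻¹) * g2⁻¹⁻¹ = t by group] at this
  have F : Flag X1 t t2 k0 (conjugatesOf (q b)) q ⟨t, h.t_mem_half H⟩ := by
    refine ⟨⟨hqs, fun c => ?_, fun c => ?_, ?_, fun e' => dt (congrArg Subtype.val e')⟩, rfl,
      (h.half_quasisimple H hw).1.commutator_eq_top, hsimp, hcls, h22,
      ⟨H.pair_le h.t2_mem, by rw [← hb]; exact mem_conjugatesOf_self⟩, fun g hg c hc => H.conj g (mem_cent_of_commute hg) c hc,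
      hmove, hback, fun y hy hne hc => ?_⟩
    · rw [hqk, Subtype.ext_iff, Subtype.ext_iff, OneMemClass.coe_one]
    · exact Subtype.ext (cT c.2).symm.eq
    · exact Subtype.ext h.sqT
    · obtain ⟨p, hp, ep⟩ := htri y hy hne hc
      have := hin (hpairC _ (inv_mem hp)) hw2
      rwa [← ep, show p⁻¹ * (p * y * p⁻¹) * p⁻¹⁻¹ = y by group] at this
  obtain ⟨ι, hinj, hδ, hle, ht2⟩ := exists_sub23 F
  -- the centraliser of the transposition maps onto the half
  haveI := fi23_facts.1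
  obtain ⟨C23, hC23⟩ : ∃ C23, C23 = Subgroup.centralizer ({delta23} : Set Cfsg.Spor.Fi23) := ⟨_, rfl⟩
  have heq : X1 = C23.map ι := by
    refine Subgroup.eq_of_le_of_card_ge (fun c hc => ?_) ?_
    · obtain ⟨u, rfl⟩ := hle hc
      refine ⟨u, ?_, rfl⟩
      rw [hC23, SetLike.mem_coe, Subgroup.mem_centralizer_singleton_iff]
      exact hinj (by rw [map_mul, map_mul, hδ]; exact (cT hc).eq)
    · rw [Subgroup.card_map_of_injective hinj, hC23, card_cent23, ← Subgroup.card_mul_index ((Subgroup.zpowers t).subgroupOf X1),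
        Subgroup.index_eq_card, Nat.card_congr eF.toEquiv,
        show Nat.card Cfsg.Spor.Fi22 = _ from Fi22Pres.isFi22.2,
        Nat.card_congr (Subgroup.subgroupOfEquivOfLe ((Subgroup.zpowers_le).2 (h.t_mem_half H))).toEquiv,
        Nat.card_zpowers, orderOf_eq_prime (show t ^ 2 = 1 by rw [pow_two, h.sqT]) dt]
  refine ⟨X1, t, o, t2, ι, ⟨hinj, hδ, fun c hc => hle hc, fun u hu => ?_, fun c hc => cT hc,
    fun g hg c hc => H.conj g (mem_cent_of_commute hg) c hc,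
    fun a b ha hb => H.index a (mem_cent_of_commute ha) b (mem_cent_of_commute hb),
    fun c h1 h2' => H.pair_le (mem_pairCent.2 ⟨h1, h2'⟩), commute_of_mem_cent H.o_mem, H.o_out, H.o_move, ht2,
    h.comm.symm, fun e' => dne e'.symm, ?_⟩, h.commTz⟩
  · rw [heq]
    exact ⟨u, by rw [hC23, SetLike.mem_coe, Subgroup.mem_centralizer_singleton_iff]; exact hu.eq, rfl⟩
  · rw [← hC23]
    exact ((Lib.Core.quasisimple_congr (h.half_quasisimple H hw)
      ((MulEquiv.subgroupCongr heq).trans (C23.equivMapOfInjective ι hinj).symm))).1.commutator_eq_top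

end Cfsg.Lib.Fischer.Fi24Simple
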