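import Cfsg.Agent.Lib.Fischer.Cent24.Side

/-!
# The centraliser of the nine in the subgroup of index two of the presented Fi24
-/

set_option autoImplicit false
set_option maxRecDepth 100000

namespace Cfsg.Lib.Fischer.Fi24Simple

open Cfsg Cfsg.Lib.CosetEnum Cfsg.Lib.BigPerm Cfsg.Lib.BigPerm.Fi24 Cfsg.Lib.BigPerm.Fi24Cert
open Cfsg.Lib.Fischer Cfsg.Lib.Fischer.Cent24

local notation "G1" => Cfsg.Spor.Fi24
local notation "x" => Cfsg.Lib.BigPerm.Fi24.x
local notation "nets" => Fi24Net.nets

attribute [local instance] fin24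

/-- The points moved by one of some generators, with one bit of the point differing. -/
noncomputable def movedBy (g : ℕ) : ℕ :=
  (List.range wExp).foldr (fun s a => Nat.lor (Nat.xor (runW nets [g] (idPlane s)) (idPlane s)) a) 0

/-- The points moved by one of some generators. -/
noncomputable def moved (S : List ℕ) : ℕ := S.foldr (fun g a => Nat.lor (movedBy g) a) 0

/-- The points fixed by all of some generators. -/
noncomputable def fixedPts (S : List ℕ) : ℕ := Nat.xor (below 306936) (Nat.land (moved S) (below 306936))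

theorem foldr_lor_false {α : Type*} (F : α → ℕ) (i : ℕ) : ∀ l : List α, (∀ a ∈ l, (F a).testBit i = false) →
    (l.foldr (fun a b => Nat.lor (F a) b) 0).testBit i = false
  | [], _ => Nat.zero_testBit i
  | a :: l, h => by
    show (F a ||| l.foldr (fun a b => Nat.lor (F a) b) 0).testBit i = false
    rw [Nat.testBit_or, h a (by simp), foldr_lor_false F i l fun b hb => h b (by simp [hb]), Bool.false_or]

/-- A common fixed point is among the computed ones. -/
theorem fixed_bit {S : List ℕ} (hS : ∀ g ∈ S, g < 12) {i : Fin 306936} (h : ∀ g ∈ S, f (x g) i = i) :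
    (fixedPts S).testBit i.1 = true := by
  have hm : (moved S).testBit i.1 = false := by
    refine foldr_lor_false movedBy _ S fun g hg => ?_
    have hperm : permG nets g i.1 = i.1 := by
      rw [← bperm_apply (n := 306936) lens_ok range_ok (k := 15) (by have := hS g hg; omega), ← f_gen (hS g hg),
        h g hg]
    refine foldr_lor_false _ _ (List.range wExp) fun s _ => ?_
    show (runW nets [g] (idPlane s) ^^^ idPlane s).testBit i.1 = false
    rw [Nat.testBit_xor, testBit_runW lens_ok (fun a ha => by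
        rw [List.mem_singleton] at ha; subst ha; have := hS a hg; simp only [eps]; omega),
      permW_cons nets (by have := hS g hg; simp only [eps]; omega), permW_nil, one_mul,
      Equiv.Perm.inv_eq_iff_eq.2 hperm.symm]
    simp
  show (below 306936 ^^^ (moved S &&& below 306936)).testBit i.1 = true
  rw [Nat.testBit_xor, Nat.testBit_and, hm, testBit_below]
  simp

theorem fixed_nine : fixedPts [3, 4, 5, 6, 7, 8, 9, 10, 11] = Nat.lor (point 0) (Nat.lor (point 1) (point 2)) := by
  decide +kernel

theorem fixed_base : fixedPts [0, 4, 5, 6, 7, 8, 9, 10, 11] = Nat.lor (point 0) (point 275265) := by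
  decide +kernel

theorem testBit_point {a i : ℕ} (h : (point a).testBit i = true) : i = a := by
  rw [show point a = 2 ^ a by rw [point]; exact Nat.one_shiftLeft a, Nat.testBit_two_pow, decide_eq_true_eq] at h
  exact h.symm

/-- The third point of the first two generators. -/
def p2 : Fin 306936 := ⟨2, by decide⟩

theorem p2_back : Nat.beq (runW nets [0, 1] (point p2.1)) (point p0.1) = true := by decide +kernel

theorem pk_back : Nat.beq (runW nets [1, 0] (point pk.1)) (point p0.1) = true := by decide +kernel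

theorem mem_H_of_fix {g : G1} (h : f g p0 = p0) : g ∈ Hsub := by
  refine mem_Hsub_iff.2 (π_bijective.1 ?_)
  rw [π_smul, π_q0, h]

theorem conj_w : wordVal x [1, 2, 0, 1] * x 0 * (wordVal x [1, 2, 0, 1])⁻¹ = x 2 := by
  have e : wordVal x [1, 2, 0, 1] = x 1 * x 0 * x 2 * x 1 := by
    simp [wordVal, CosetEnum.gen, eps]
  have h01 := Fi24.braid (a := 0) (b := 1) (by decide) (by decide) (by decide +kernel)
  have h12 := Fi24.braid (a := 1) (b := 2) (by decide) (by decide) (by decide +kernel)
  have c02 : Commute (x 2) (x 0) := x_comm (by decide) (by decide) (by decide +kernel)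
  have hi : ∀ g, (x g)⁻¹ = x g := fun g => inv_eq_of_mul_eq_one_left (x_mul_self g)
  calc wordVal x [1, 2, 0, 1] * x 0 * (wordVal x [1, 2, 0, 1])⁻¹
      = x 1 * x 0 * x 2 * (x 1 * x 0 * x 1) * x 2 * x 0 * x 1 := by
        rw [e, mul_inv_rev, mul_inv_rev, mul_inv_rev, hi, hi, hi]; group
    _ = x 1 * x 0 * (x 2 * x 0) * x 1 * (x 0 * x 2) * x 0 * x 1 := by rw [← h01]; group
    _ = x 1 * x 0 * (x 0 * x 2) * x 1 * (x 0 * x 2) * x 0 * x 1 := by rw [c02.eq]
    _ = x 1 * (x 0 * x 0) * x 2 * x 1 * (x 2 * x 0) * x 0 * x 1 := by rw [c02.eq]; group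
    _ = x 1 * (x 0 * x 0) * (x 2 * x 1 * x 2) * (x 0 * x 0) * x 1 := by group
    _ = x 1 * x 1 * x 2 * (x 1 * x 1) := by rw [x_mul_self, ← h12]; group
    _ = x 2 := by rw [x_mul_self, one_mul, mul_one]

/-- An element of the index two subgroup fixing the first point and centralising the nine is trivial. -/
theorem eq_one_of_fix {g : G1} (hg : g ∈ D24) (h0 : f g p0 = p0)
    (h9 : ∀ n ∈ ([3, 4, 5, 6, 7, 8, 9, 10, 11] : List ℕ), Commute g (x n)) : g = 1 := by
  have hH := mem_H_of_fix h0
  have c0 := mem_H_iff.1 hH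
  have hS : ∀ n ∈ ([0, 4, 5, 6, 7, 8, 9, 10, 11] : List ℕ), Commute g (x n) := by
    intro n hn
    simp only [List.mem_cons, List.not_mem_nil, or_false] at hn
    rcases hn with rfl | rfl | rfl | rfl | rfl | rfl | rfl | rfl | rfl
    · exact c0
    all_goals exact h9 _ (by decide)
  have hw : f g pw = pw := by
    have hfix : ∀ n ∈ ([0, 4, 5, 6, 7, 8, 9, 10, 11] : List ℕ), f (x n) (f g pw) = f g pw := by
      intro n hn
      have hp : f (x n) pw = pw := by
        obtain ⟨hlt, hok⟩ := (show ∀ n ∈ ([0, 4, 5, 6, 7, 8, 9, 10, 11] : List ℕ), n < 12 ∧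
          Nat.beq (runW nets [n] (point 275265)) (point 275265) = true by decide +kernel) n hn
        have := wordVal_point (n := 306936) (p := pw) (q := pw) lens_ok range_ok (k := 15) (by decide)
          (w := [n]) (fun a ha => by rw [List.mem_singleton] at ha; omega) hok
        rw [← f_word (fun a ha => by rw [List.mem_singleton] at ha; omega),
          Fi24.wordVal_one (by simp only [eps]; omega)] at this
        exact this
      rw [← Equiv.Perm.mul_apply, ← map_mul, ← (hS n hn).eq, map_mul, Equiv.Perm.mul_apply, hp]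
    have hb := fixed_bit (by decide) hfix
    rw [fixed_base] at hb
    change (point 0 ||| point 275265).testBit _ = true at hb
    rw [Nat.testBit_or, Bool.or_eq_true] at hb
    rcases hb with e | e
    · have e' : f g pw = f g p0 := by rw [h0]; exact Fin.ext (testBit_point e)
      exact absurd ((f g).injective e') (by decide)
    · exact Fin.ext (testBit_point e)
  have c2 : Commute g (x 2) := by
    obtain ⟨w, hw'⟩ : ∃ w, w = wordVal x [1, 2, 0, 1] := ⟨_, rfl⟩
    have hin : Commute (w⁻¹ * g * w) (x 0) := mem_H_iff.1 (mem_H_of_fix (by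
      rw [map_mul, map_mul, map_inv, Equiv.Perm.mul_apply, Equiv.Perm.mul_apply, hw', f_w, hw,
        Equiv.Perm.inv_eq_iff_eq, f_w]))
    have := (Commute.conj_iff w).2 hin
    rwa [show w * (w⁻¹ * g * w) * w⁻¹ = g by group, hw', conj_w] at this
  have hall : ∀ h : G1, h ∈ Hsub → Commute g h := by
    intro h hh
    induction hh using Subgroup.closure_induction with
    | mem y hy =>
      obtain ⟨w, hw, rfl⟩ := hy
      obtain ⟨n, hn, hn1, rfl⟩ := (show ∀ w ∈ bigWords, ∃ n < 12, n ≠ 1 ∧ [n] = w by decide +kernel) w hw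
      rw [Fi24.wordVal_one (by simp only [eps]; omega)]
      interval_cases n
      · exact c0
      · exact absurd rfl hn1
      · exact c2
      all_goals exact h9 _ (by decide)
    | one => exact Commute.one_right g
    | mul y z _ _ ihy ihz => exact ihy.mul_right ihz
    | inv y _ ih => exact ih.inv_right
  have hc : proj ⟨g, hH⟩ ∈ Subgroup.center Cfsg.Spor.Fi23 := Subgroup.mem_center_iff.2 fun u => by
    obtain ⟨h, rfl⟩ := proj_surj u
    rw [← map_mul, ← map_mul]
    exact congrArg proj (Subtype.ext (hall h h.2).symm.eq)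
  rw [Cent23.fi23_facts.2.2, Subgroup.mem_bot] at hc
  rcases proj_eq_one.1 hc with e | e
  · exact e
  · exact absurd ((show g = x 0 from e) ▸ hg) (x_not_mem (by decide))

/-- The first generator inverts the centraliser of the nine in the index two subgroup. -/
theorem inverted {g : G1} (hg : g ∈ D24) (h9 : ∀ n ∈ ([3, 4, 5, 6, 7, 8, 9, 10, 11] : List ℕ), Commute g (x n)) :
    x 0 * g * x 0 = g⁻¹ := by
  have h0n : ∀ n ∈ ([3, 4, 5, 6, 7, 8, 9, 10, 11] : List ℕ), f (x n) (f g p0) = f g p0 := by
    intro n hn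
    have hn' := (show ∀ n ∈ ([3, 4, 5, 6, 7, 8, 9, 10, 11] : List ℕ), n < 12 ∧ n ≠ 1 by decide) n hn
    rw [← Equiv.Perm.mul_apply, ← map_mul, ← (h9 n hn).eq, map_mul, Equiv.Perm.mul_apply,
      h_fix (x_mem_Hsub hn'.1 hn'.2)]
  have hb := fixed_bit (by decide) h0n
  rw [fixed_nine] at hb
  change (point 0 ||| (point 1 ||| point 2)).testBit _ = true at hb
  rw [Nat.testBit_or, Nat.testBit_or, Bool.or_eq_true, Bool.or_eq_true] at hb
  have cx : ∀ {y : G1}, (∀ n ∈ ([3, 4, 5, 6, 7, 8, 9, 10, 11] : List ℕ), Commute y (x n)) → y ∈ D24 →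
      f (y * g) p0 = p0 → g = y⁻¹ := fun {y} hy hyD e =>
    eq_inv_of_mul_eq_one_right (eq_one_of_fix (mul_mem hyD hg) e fun n hn => (hy n hn).mul_left (h9 n hn))
  have c9 : ∀ a b, a < 2 → b < 2 → ∀ n ∈ ([3, 4, 5, 6, 7, 8, 9, 10, 11] : List ℕ), Commute (x a * x b) (x n) := by
    intro a b ha hb n hn
    have key : ∀ c < 2, Commute (x c) (x n) := fun c hc => by
      obtain ⟨h1, h2⟩ := (show ∀ c < 2, ∀ n ∈ ([3, 4, 5, 6, 7, 8, 9, 10, 11] : List ℕ),
        n < 12 ∧ [n, c, n, c] ∈ numbering.pairs by decide +kernel) c hc n hn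
      exact x_comm (by omega) h1 h2
    exact (key a ha).mul_left (key b hb)
  rcases hb with e | e | e
  · have := eq_one_of_fix hg (Fin.ext (testBit_point e)) h9
    rw [this, mul_one, x_mul_self, inv_one]
  · have hp := wordVal_point (n := 306936) (p := pk) (q := p0) lens_ok range_ok (k := 15) (by decide)
      (w := [1, 0]) (by decide) pk_back
    rw [← f_word (by decide), show wordVal x [1, 0] = x 0 * x 1 by simp [wordVal, CosetEnum.gen, eps]] at hp
    have := cx (c9 0 1 (by decide) (by decide)) (mem_D24_mul (x_not_mem (by decide)) (by decide))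
      (by rw [map_mul _ (x 0 * x 1) g, Equiv.Perm.mul_apply, show f g p0 = pk from Fin.ext (testBit_point e), hp])
    rw [this, inv_inv, mul_inv_rev, inv_eq_of_mul_eq_one_left (x_mul_self 1), inv_eq_of_mul_eq_one_left (x_mul_self 0),
      mul_assoc (x 0) (x 1 * x 0), mul_assoc (x 1), x_mul_self, mul_one]
  · have hp := wordVal_point (n := 306936) (p := p2) (q := p0) lens_ok range_ok (k := 15) (by decide)
      (w := [0, 1]) (by decide) p2_back
    rw [← f_word (by decide), show wordVal x [0, 1] = x 1 * x 0 by simp [wordVal, CosetEnum.gen, eps]] at hp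
    have := cx (c9 1 0 (by decide) (by decide)) (mem_D24_mul (x_not_mem (by decide)) (by decide))
      (by rw [map_mul _ (x 1 * x 0) g, Equiv.Perm.mul_apply, show f g p0 = p2 from Fin.ext (testBit_point e), hp])
    rw [this, inv_inv, mul_inv_rev, inv_eq_of_mul_eq_one_left (x_mul_self 1), inv_eq_of_mul_eq_one_left (x_mul_self 0),
      ← mul_assoc (x 0) (x 0), x_mul_self, one_mul]

end Cfsg.Lib.Fischer.Fi24Simple
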