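import Cfsg.Agent.Lib.Fischer.Fi24Simple.Nine
import Cfsg.Agent.Lib.Fischer.Cent23.Local

/-!
# A subgroup Fi23 from a double cover of Fi22 with a coherent choice of neighbours

The neighbours of an involution are a class of lifts in its double cover; the choice at a neighbour contains
the involution and the common neighbours.
-/

set_option autoImplicit false
set_option linter.unusedSectionVars false
set_option maxRecDepth 100000

namespace Cfsg.Lib.Fischer.Fi24Simple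

open Cfsg Cfsg.Spor Cfsg.Lib.CosetEnum Cfsg.Lib.CosetEnum.Fi22Two Cfsg.Lib.CosetEnum.Fi22Mult
open Cfsg.Lib.Fischer Cfsg.Lib.Fischer.Cent23
open Cfsg.Lib.Fischer.M23 (adjB)
open Cfsg.Lib.Fischer.Relations (primitive_of_simple)

variable {G : Type*} [Group G]

/-- The conjugates of an element under a subgroup. -/
def cls (C : Subgroup G) (a : G) : Set G := {y | ∃ c ∈ C, c * a * c⁻¹ = y}

/-- A conjugate of a set. -/
def shift (k : G) (S : Set G) : Set G := {y | k⁻¹ * y * k ∈ S}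

theorem shift_shift (k l : G) (S : Set G) : shift k (shift l S) = shift (k * l) S := by
  ext y
  show l⁻¹ * (k⁻¹ * y * k) * l ∈ S ↔ (k * l)⁻¹ * y * (k * l) ∈ S
  rw [show (k * l)⁻¹ * y * (k * l) = l⁻¹ * (k⁻¹ * y * k) * l by group]

theorem conj_mem_shift {k : G} {S : Set G} {u : G} (h : u ∈ S) : k * u * k⁻¹ ∈ shift k S := by
  show k⁻¹ * (k * u * k⁻¹) * k ∈ S
  rwa [show k⁻¹ * (k * u * k⁻¹) * k = u by group]

/-- A double cover of a group of type M(22) with a coherent choice of lifts at a neighbour. -/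
structure Flag (C : Subgroup G) (t t2 k0 : G) {Q : Type*} [Group Q] (E : Set Q) (π : ↥C →* Q) (z : ↥C) : Prop where
  dbl : IsDouble π z
  z_val : (z : G) = t
  perfect : commutator ↥C = ⊤
  simple : IsSimpleGroup Q
  cls3 : Cfsg.IsThreeTranspositionClass E
  type22 : Cfsg.IsOfTypeM22 Q E
  t2E : ∃ h : t2 ∈ C, π ⟨t2, h⟩ ∈ E
  norm : ∀ g, Commute g t → ∀ c ∈ C, g * c * g⁻¹ ∈ C
  move : k0 * t * k0⁻¹ = t2
  back : t ∈ shift k0 (cls C t2)
  triangle : ∀ y ∈ cls C t2, y ≠ t2 → Commute y t2 → y ∈ shift k0 (cls C t2)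

variable [Finite G] {C : Subgroup G} {t t2 k0 : G} {Q : Type*} [Group Q] [Finite Q] {E : Set Q} {π : ↥C →* Q} {z : ↥C}

namespace Flag

variable (H : Flag C t t2 k0 E π z)
include H

theorem comm_t {c : G} (hc : c ∈ C) : Commute c t :=
  H.z_val ▸ (congrArg Subtype.val (H.dbl.central ⟨c, hc⟩).eq.symm : c * (z : G) = (z : G) * c)

theorem fix_t {c : G} (hc : c ∈ C) : c * t * c⁻¹ = t := by rw [(H.comm_t hc).eq, mul_inv_cancel_right]

theorem cls_mem {y : G} (hy : y ∈ cls C t2) : y ∈ C := by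
  obtain ⟨c, hc, rfl⟩ := hy
  exact mul_mem (mul_mem hc H.t2E.1) (inv_mem hc)

/-- Two views of one member with a neighbour in common are equal. -/
theorem same {k k' : G} (hkk : k * t * k⁻¹ = k' * t * k'⁻¹) {y : G} (hy : y ∈ shift k (cls C t2))
    (hy' : y ∈ shift k' (cls C t2)) : shift k (cls C t2) = shift k' (cls C t2) := by
  obtain ⟨g, hg⟩ : ∃ g, g = k⁻¹ * k' := ⟨_, rfl⟩
  have hk' : k' = k * g := by rw [hg, mul_inv_cancel_left]
  have hgt : Commute g t := mul_inv_eq_iff_eq_mul.1 (by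
    rw [hg, show k⁻¹ * k' * t * (k⁻¹ * k')⁻¹ = k⁻¹ * (k' * t * k'⁻¹) * k by group, ← hkk]
    group)
  obtain ⟨c1, hc1, e1⟩ := hy
  obtain ⟨c2, hc2, e2⟩ := hy'
  have hmove : g * (c2 * t2 * c2⁻¹) * g⁻¹ = c1 * t2 * c1⁻¹ := by
    rw [e1, e2, hk']; group
  have key : ∀ {g' a b : G}, Commute g' t → a ∈ C → b ∈ C → g' * (a * t2 * a⁻¹) * g'⁻¹ = b * t2 * b⁻¹ →
      ∀ c ∈ C, g' * (c * t2 * c⁻¹) * g'⁻¹ ∈ cls C t2 := fun {g' a b} hg' ha hb e c hc => by
    refine ⟨g' * (c * a⁻¹) * g'⁻¹ * b, mul_mem (H.norm g' hg' _ (mul_mem hc (inv_mem ha))) hb, ?_⟩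
    rw [show g' * (c * a⁻¹) * g'⁻¹ * b * t2 * (g' * (c * a⁻¹) * g'⁻¹ * b)⁻¹ =
      g' * (c * a⁻¹) * g'⁻¹ * (b * t2 * b⁻¹) * (g' * (c * a⁻¹) * g'⁻¹)⁻¹ by group, ← e]
    group
  ext v
  show k⁻¹ * v * k ∈ cls C t2 ↔ k'⁻¹ * v * k' ∈ cls C t2
  have hmove' : g⁻¹ * (c1 * t2 * c1⁻¹) * g⁻¹⁻¹ = c2 * t2 * c2⁻¹ := by rw [← hmove]; group
  constructor
  · rintro ⟨c, hc, e⟩
    have := key hgt.inv_left hc1 hc2 hmove' c hc
    rwa [e, inv_inv, show g⁻¹ * (k⁻¹ * v * k) * g = k'⁻¹ * v * k' by rw [hk']; group] at this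
  · rintro ⟨c, hc, e⟩
    have := key hgt hc2 hc1 hmove c hc
    rwa [e, show g * (k'⁻¹ * v * k') * g⁻¹ = k⁻¹ * v * k by rw [hk']; group] at this

/-- The view of a neighbour from the first involution's view. -/
theorem back_at {c : G} (hc : c ∈ C) : t ∈ shift (c * k0) (cls C t2) := by
  show (c * k0)⁻¹ * t * (c * k0) ∈ cls C t2
  have hb : k0⁻¹ * t * k0 ∈ cls C t2 := H.back
  rwa [show (c * k0)⁻¹ * t * (c * k0) = k0⁻¹ * (c⁻¹ * t * c) * k0 by group,
    show c⁻¹ * t * c = t by rw [mul_assoc, ← (H.comm_t hc).eq, inv_mul_cancel_left]]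

theorem triangle_at {c y : G} (hc : c ∈ C) (hy : y ∈ cls C t2) (hne : y ≠ c * t2 * c⁻¹)
    (hcomm : Commute y (c * t2 * c⁻¹)) : y ∈ shift (c * k0) (cls C t2) := by
  obtain ⟨a, ha, ea⟩ := hy
  have h1 := H.triangle (c⁻¹ * y * c) ⟨c⁻¹ * a, mul_mem (inv_mem hc) ha, by rw [← ea]; group⟩
    (fun e => hne (by rw [← e]; group)) (by
      rw [← Commute.conj_iff c, show c * (c⁻¹ * y * c) * c⁻¹ = y by group]
      exact hcomm)
  rw [← shift_shift]
  exact h1

end Flag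

/-- The lifts in the class and the tables. -/
structure View (C : Subgroup G) (t2 : G) (E : Set Q) (π : ↥C →* Q) (z : ↥C) where
  T : Fi22Norm.Fi22Tab Q E
  L₀ : T.A.Lifts π
  coord_ok : IsCoord z T L₀ coord
  f : ℕ
  sign : IsSign f
  L : T.A.Lifts π
  L_eq : ∀ p, L.Y p = L₀.Y p * signZ z f
  mem_iff : ∀ y : G, y ∈ cls C t2 ↔ ∃ p, (L.Y p : G) = y

theorem exists_view_data (H : Flag C t t2 k0 E π z) : Nonempty (View C t2 E π z) := by
  classical
  haveI := H.simple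
  have hd := H.dbl
  have hT : Trans E := trans_of_class H.cls3
  have hprim : Cfsg.IsPrimitiveUnderConj E := by
    obtain ⟨hZ', d₁, hd₁, c₁, hc₁, hnc, -⟩ := id H.type22
    exact primitive_of_simple hT ⟨d₁, hd₁, c₁, hc₁, fun h => hnc (h ▸ Commute.refl d₁)⟩ hZ'
  obtain ⟨T⟩ := Fi22Norm.exists_tab ⟨H.cls3.1, hT.conj, hT.gen⟩ hprim H.type22
  obtain ⟨L₁⟩ := exists_lifts_cover H.cls3 H.type22 hd T
  obtain ⟨L₀, hL₀⟩ := exists_coord_std T hd H.perfect L₁
  obtain ⟨h2C, h2E⟩ := H.t2E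
  obtain ⟨p0, hp0⟩ : ∃ p, T.A.delta p = π ⟨t2, h2C⟩ := (T.A.isConj_iff_exists _).1 (by
    rw [← T.class_eq] at h2E; exact h2E)
  obtain ⟨f, L, hf, hLeq, hL0⟩ : ∃ (f : ℕ) (L : T.A.Lifts π), IsSign f ∧ (∀ p, L.Y p = L₀.Y p * signZ z f) ∧
      L.Y p0 = ⟨t2, h2C⟩ := by
    rcases hd.eq_or (a := (⟨t2, h2C⟩ : ↥C)) (b := L₀.Y p0) (by rw [L₀.proj, hp0]) with e | e
    · exact ⟨0, L₀, Or.inl rfl, fun p => by simp [signZ], e.symm⟩
    · exact ⟨1024, flipLifts T L₀ hd, Or.inr rfl, fun p => rfl, e.symm⟩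
  refine ⟨⟨T, L₀, hL₀, f, hf, L, hLeq, fun y => ⟨?_, ?_⟩⟩⟩
  · rintro ⟨c, hc, rfl⟩
    refine ⟨T.A.f (π ⟨c, hc⟩) p0, ?_⟩
    rw [← equivariant T L hd, hL0]
    rfl
  · rintro ⟨p, rfl⟩
    obtain ⟨g, hg⟩ := T.A.trans p
    obtain ⟨g₀, hg₀⟩ := T.A.trans p0
    obtain ⟨c, hc⟩ := hd.surj (g * g₀⁻¹)
    refine ⟨c, c.2, ?_⟩
    have e : c * L.Y p0 * c⁻¹ = L.Y p := by
      rw [equivariant T L hd, hc, map_mul, map_inv, Equiv.Perm.mul_apply, ← hg₀, Equiv.Perm.inv_def,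
        Equiv.symm_apply_apply, hg]
    rw [← e, hL0]
    rfl

namespace View

variable (V : View C t2 E π z)

/-- The conjugate of the cover. -/
def ψ (k : G) : ↥C →* G := (MulAut.conj k).toMonoidHom.comp C.subtype

/-- The member of a point seen from `k * t * k⁻¹`. -/
def pt (k : G) (p : Fin 3510) : G := ψ (C := C) k (V.L.Y p)

theorem exists_pt {k x : G} (hx : x ∈ shift k (cls C t2)) : ∃ p, V.pt k p = x := by
  obtain ⟨p, hp⟩ := (V.mem_iff _).1 hx
  refine ⟨p, ?_⟩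
  show k * (V.L.Y p : G) * k⁻¹ = x
  rw [hp]; group

theorem pt_mem (k : G) (p : Fin 3510) : V.pt k p ∈ shift k (cls C t2) :=
  conj_mem_shift ((V.mem_iff _).2 ⟨p, rfl⟩)

variable (H : Flag C t t2 k0 E π z)
include H

theorem delta_mem (p : Fin 3510) : V.T.A.delta p ∈ E := by
  have h : V.T.A.delta p ∈ conjugatesOf V.T.A.d := (V.T.A.isConj_iff_exists _).2 ⟨p, rfl⟩
  rwa [V.T.class_eq] at h

theorem delta_sq (p : Fin 3510) : V.T.A.delta p * V.T.A.delta p = 1 := by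
  rw [← V.L.proj, ← map_mul, V.L.sq, map_one]

theorem lift_inj {p q : Fin 3510} (h : V.L.Y p = V.L.Y q) : p = q :=
  V.T.A.delta_injective (by rw [← V.L.proj, ← V.L.proj, h])

theorem lift_ne_z (p : Fin 3510) : (V.L.Y p : G) ≠ t := fun e => by
  have h1 : V.L.Y p = z := Subtype.ext (e.trans H.z_val.symm)
  have := (H.cls3.1.1 _ (delta_mem V H p))
  rw [← V.L.proj, h1, H.dbl.proj_z, orderOf_one] at this
  omega

theorem ψ_inj (k : G) : Function.Injective (ψ (C := C) k) :=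
  (MulAut.conj k).injective.comp Subtype.val_injective

theorem lift_commute {p q : Fin 3510} :
    Commute (V.L.Y p) (V.L.Y q) ↔ Commute (V.T.A.delta p) (V.T.A.delta q) := by
  refine ⟨fun h => by rw [← V.L.proj, ← V.L.proj]; exact h.map π, fun h => ?_⟩
  have e := V.L.conj p q
  rw [(V.T.A.commute_delta_iff _ q).1 h.eq] at e
  show V.L.Y p * V.L.Y q = V.L.Y q * V.L.Y p
  calc V.L.Y p * V.L.Y q = V.L.Y p * V.L.Y q * (V.L.Y p * V.L.Y p) := by rw [V.L.sq, mul_one]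
    _ = V.L.Y q * V.L.Y p := by rw [← mul_assoc, e]

theorem pt_commute {k : G} {p q : Fin 3510} :
    Commute (V.pt k p) (V.pt k q) ↔ Commute (V.T.A.delta p) (V.T.A.delta q) :=
  ⟨fun h => (lift_commute V H).1 (ψ_inj H k (by rw [map_mul, map_mul]; exact h.eq)),
    fun h => ((lift_commute V H).2 h).map (ψ k)⟩

theorem pt_braid {k : G} {p q : Fin 3510} (h : ¬ Commute (V.pt k p) (V.pt k q)) :
    (V.pt k p * V.pt k q) ^ 3 = 1 := by
  have h' : ¬ Commute (V.T.A.delta p) (V.T.A.delta q) := fun e => h ((pt_commute V H).2 e)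
  have h2 := delta_sq V H
  have hb : V.T.A.delta p * V.T.A.delta q * V.T.A.delta p = V.T.A.delta q * V.T.A.delta p * V.T.A.delta q :=
    Fischer.braid (trans_of_class H.cls3) (delta_mem V H p) (delta_mem V H q) h'
  have hpq : V.T.A.f (V.T.A.delta p) q = V.T.A.f (V.T.A.delta q) p := by
    refine V.T.A.delta_injective ?_
    rw [V.T.A.delta_apply, V.T.A.delta_apply, inv_eq_of_mul_eq_one_left (h2 p), inv_eq_of_mul_eq_one_left (h2 q)]
    exact hb
  have e : V.L.Y p * V.L.Y q * V.L.Y p = V.L.Y q * V.L.Y p * V.L.Y q := by rw [V.L.conj, V.L.conj, hpq]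
  have e3 : (V.L.Y p * V.L.Y q) ^ 3 = 1 := by
    calc (V.L.Y p * V.L.Y q) ^ 3 = V.L.Y p * V.L.Y q * V.L.Y p * (V.L.Y q * V.L.Y p * V.L.Y q) := by
          rw [pow_succ, pow_two]; group
      _ = V.L.Y p * V.L.Y q * V.L.Y p * (V.L.Y p * V.L.Y q * V.L.Y p) := by rw [e]
      _ = V.L.Y p * V.L.Y q * (V.L.Y p * V.L.Y p) * V.L.Y q * V.L.Y p := by group
      _ = 1 := by rw [V.L.sq, mul_one, mul_assoc (V.L.Y p) (V.L.Y q) (V.L.Y q), V.L.sq, mul_one, V.L.sq]
  show (ψ k (V.L.Y p) * ψ k (V.L.Y q)) ^ 3 = 1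
  rw [← map_mul, ← map_pow, e3, map_one]

end View

/-- Nine members of the class with the relations. -/
structure NineC (C : Subgroup G) (t t2 : G) (y : ℕ → G) : Prop where
  member : ∀ g < 9, y g ∈ cls C t2 ∧ Commute (y g) t ∧ y g ≠ t
  sq : ∀ g, y g * y g = 1
  adj : ∀ r < 9, ∀ s < 9, (Commute (y r) (y s) ↔ adjB r s = false) ∧ (r ≠ s → y r ≠ y s)
  pairs : ∀ r ∈ Fi22Pres.numbering.pairs, wordVal y r = 1
  extra0 : wordVal y (Fi22Pres.extra.getD 0 []) = 1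
  extra1 : wordVal y (Fi22Pres.extra.getD 1 []) = 1
  right : wordVal y wordRight = t
  gen : C ≤ Subgroup.closure (y '' {g | g < 9})

theorem exists_nineC (H : Flag C t t2 k0 E π z) (V : View C t2 E π z) : ∃ y, NineC C t t2 y := by
  obtain ⟨p, y, hy, hadj, hsq, hpairs, h0, h1, hW, htop⟩ :=
    exists_nine_lifts H.dbl V.T V.L₀ V.L V.coord_ok V.sign V.L_eq
  have hd := H.dbl
  have hval : ∀ w : List ℕ, wordVal (fun g => (y g : G)) w = ((wordVal y w : ↥C) : G) := fun w =>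
    (map_wordVal C.subtype y w).symm
  refine ⟨fun g => (y g : G), ⟨fun g hg => ⟨?_, H.comm_t (y g).2, ?_⟩, fun g => congrArg Subtype.val (hsq g),
    fun r hr s hs => ⟨?_, ?_⟩, fun r hr => ?_, ?_, ?_, ?_, ?_⟩⟩
  · exact (V.mem_iff _).2 ⟨p g, by rw [hy g hg]⟩
  · show ((y g : ↥C) : G) ≠ t
    rw [hy g hg]
    exact View.lift_ne_z V H (p g)
  · rw [← (hadj r hr s hs).1, ← View.lift_commute V H, ← hy r hr, ← hy s hs]
    exact ⟨fun h => Subtype.ext h.eq, fun h => congrArg Subtype.val h.eq⟩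
  · intro hne e
    exact (hadj r hr s hs).2 hne (View.lift_inj V H (by rw [← hy r hr, ← hy s hs]; exact Subtype.ext e))
  · rw [hval, hpairs r hr]; rfl
  · rw [hval, h0]; rfl
  · rw [hval, h1]; rfl
  · rw [hval, hW, H.z_val]
  · have hS : Subgroup.closure (y '' {g | g < 9}) = ⊤ := by
      rw [eq_top_iff]
      intro c _
      obtain ⟨b, hb, e⟩ := (htop ▸ Subgroup.mem_top (π c) :
        π c ∈ (Subgroup.closure (y '' {g | g < 9})).map π)
      have hz : z ∈ Subgroup.closure (y '' {g | g < 9}) := by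
        rw [← hW]
        refine Subgroup.closure_mono (Set.image_mono fun g (hg : g ∈ wordRight) =>
          (show ∀ g ∈ wordRight, g < 9 by decide +kernel) g hg) ?_
        exact wordVal_mem y (S := wordRight) fun g hg =>
          ⟨hg, (show ∀ g ∈ wordRight, g ≠ eps by decide +kernel) g hg⟩
      rcases hd.eq_or e.symm with h | h <;> rw [h]
      exacts [hb, mul_mem hb hz]
    have key := congrArg (Subgroup.map C.subtype) hS
    rw [MonoidHom.map_closure, ← MonoidHom.range_eq_map, Subgroup.range_subtype, ← Set.image_comp] at key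
    exact key.ge

end Cfsg.Lib.Fischer.Fi24Simple
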