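import Cfsg.Agent.Lib.Fischer.Cent23.Values

/-!
# Nine lifts with the relations of Fi23 in a double cover, the choice of lifts given by a sign
-/

set_option autoImplicit false
set_option linter.unusedSectionVars false
set_option maxRecDepth 100000

namespace Cfsg.Lib.Fischer.Fi24Simple

open Cfsg Cfsg.Spor Cfsg.Lib.CosetEnum Cfsg.Lib.CosetEnum.Fi22Two Cfsg.Lib.CosetEnum.Fi22Mult
open Cfsg.Lib.Fischer.M23 (adjB pattern_ok)
open Cfsg.Lib.Fischer.Cent23
open Fi22U62 (tabP)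
open Fi22Out (pts)

variable {C : Type*} [Group C] [Finite C] {Q : Type*} [Group Q] [Finite Q] {E : Set Q} {π : C →* Q} {z : C}

/-- Nine lifts from a table with the relations that hold in Fi23. -/
theorem exists_nine_lifts (hd : IsDouble π z) (T : Fi22Norm.Fi22Tab Q E) (L₀ L : T.A.Lifts π)
    (hcoord : IsCoord z T L₀ coord) {f : ℕ} (hsign : IsSign f) (hLeq : ∀ p, L.Y p = L₀.Y p * signZ z f) :
    ∃ (p : ℕ → Fin 3510) (y : ℕ → C),
      (∀ g < 9, y g = L.Y (p g)) ∧
      (∀ r < 9, ∀ s < 9, (Commute (T.A.delta (p r)) (T.A.delta (p s)) ↔ adjB r s = false) ∧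
        (r ≠ s → p r ≠ p s)) ∧
      (∀ g, y g * y g = 1) ∧
      (∀ r ∈ Fi22Pres.numbering.pairs, wordVal y r = 1) ∧
      wordVal y (Fi22Pres.extra.getD 0 []) = 1 ∧ wordVal y (Fi22Pres.extra.getD 1 []) = 1 ∧
      wordVal y wordRight = z ∧ (Subgroup.closure (y '' {g | g < 9})).map π = ⊤ := by
  obtain ⟨hpairs₀, hv0, hv1, hv2⟩ := rel_values T L₀ hd hcoord
  obtain ⟨e, he⟩ : ∃ e, e = signZ z f := ⟨_, rfl⟩
  have hec : ∀ c, Commute e c := by
    rw [he, signZ]
    split_ifs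
    exacts [fun c => Commute.one_left c, hd.central]
  have he2 : e ^ 2 = 1 := by
    rw [he, signZ, pow_two]
    split_ifs
    exacts [one_mul 1, hd.sq]
  have hlen : (Fi22Pres.extra.getD 0 []).length = 2 * 45 ∧ (Fi22Pres.extra.getD 1 []).length = 2 * 31 + 1 ∧
      (Fi22Pres.extra.getD 2 []).length = 2 * 31 + 1 := by decide +kernel
  have hlt : ∀ i < 3, ∀ g ∈ Fi22Pres.extra.getD i [], g < 9 := by decide +kernel
  have flip := fun {w : List ℕ} (hw : ∀ g ∈ w, g < 9) => flip_value (L := L₀) (M := L) hd hec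
    (fun p => he ▸ hLeq p) hw
  have hpairs : ∀ r ∈ Fi22Pres.numbering.pairs, wordVal L.y r = 1 ∧ ∀ g ∈ r, g < 9 := fun r hr => by
    obtain ⟨h1, ⟨m, hm⟩, h3⟩ := hpairs₀ r hr
    refine ⟨?_, h3⟩
    rw [flip h3, h1, hm, ← two_mul, pow_mul, he2, one_pow, mul_one]
  have f0 : wordVal L.y (Fi22Pres.extra.getD 0 []) = 1 := by
    rw [flip (hlt 0 (by norm_num)), hv0, hlen.1, pow_mul, he2, one_pow, mul_one]
  have f1 : wordVal L.y (Fi22Pres.extra.getD 1 []) = z * e := by
    rw [flip (hlt 1 (by norm_num)), hv1, hlen.2.1, pow_succ, pow_mul, he2, one_pow, one_mul]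
  have f2 : wordVal L.y (Fi22Pres.extra.getD 2 []) = e := by
    rw [flip (hlt 2 (by norm_num)), hv2, hlen.2.2, pow_succ, pow_mul, he2, one_pow, one_mul, one_mul]
  have hsw := swap_rels
  simp only [Bool.and_eq_true, isOne, isCentre] at hsw
  obtain ⟨⟨⟨⟨⟨⟨s0, s1⟩, s2⟩, sW⟩, o0⟩, o1⟩, o2⟩ := hsw
  have hex : ∀ r ∈ Fi22Pres.extra, r = Fi22Pres.extra.getD 0 [] ∨ r = Fi22Pres.extra.getD 1 [] ∨
      r = Fi22Pres.extra.getD 2 [] := by decide +kernel
  have hw' := swap_words
  simp only [List.all_eq_true, Bool.and_eq_true, Nat.blt_eq, List.mem_cons, List.not_mem_nil, or_false] at hw'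
  obtain ⟨σ, hσ9, hσσ, hσpairs, hσadj, hx, hW⟩ : ∃ σ : ℕ → ℕ, (∀ g < 9, σ g < 9) ∧ (∀ g < 9, σ (σ g) = g) ∧
      (∀ r ∈ Fi22Pres.numbering.pairs, r.map σ ∈ Fi22Pres.numbering.pairs) ∧
      (∀ r < 9, ∀ s < 9, adjB (σ r) (σ s) = adjB r s) ∧
      (∀ r ∈ Fi22Pres.extra,
        (wordVal L.y r = 1 ∧ wordVal x23 ((r.map σ).map to23) = 1) ∨
        (wordVal L.y r = z ∧ wordVal x23 ((r.map σ).map to23) = delta23)) ∧
      ∀ w ∈ [Fi22Pres.extra.getD 0 [], Fi22Pres.extra.getD 1 [], wordRight],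
        sameOK tabP 9 pts (w.map σ) [] = true := by
    rcases hsign with hf | hf
    · refine ⟨armSwap, by decide, by decide, fun r hr => by simpa using List.all_eq_true.1 swap_pairs r hr,
        by decide +kernel, ?_,
        fun w hw => (hw' w (by simpa using hw)).2⟩
      have he1 : e = 1 := by rw [he, signZ, if_pos hf]
      intro r hr
      rcases hex r hr with rfl | rfl | rfl
      · exact Or.inl ⟨f0, (same23 s0).trans rfl⟩
      · exact Or.inr ⟨by rw [f1, he1, mul_one], same23 s1⟩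
      · exact Or.inl ⟨by rw [f2, he1], (same23 s2).trans rfl⟩
    · refine ⟨id, fun g h => h, fun g _ => rfl, fun r hr => by simpa using hr, fun r _ s _ => rfl, ?_,
        fun w hw => by simpa using (hw' w (by simpa using hw)).1.2⟩
      have he1 : e = z := by rw [he, signZ, if_neg (by omega)]
      intro r hr
      rcases hex r hr with rfl | rfl | rfl <;> rw [List.map_id]
      · exact Or.inl ⟨f0, (same23 o0).trans rfl⟩
      · exact Or.inl ⟨by rw [f1, he1, hd.sq], (same23 o1).trans rfl⟩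
      · exact Or.inr ⟨by rw [f2, he1], same23 o2⟩
  have hσe : ∀ g < 9, σ g ≠ eps := fun g hg => by have := hσ9 g hg; simp only [eps]; omega
  have to23_sq : ∀ g, x23 g * x23 g = 1 := Fi23Pres.numbering.gens_mul_self Fi23.extra
  obtain ⟨x, hxdef⟩ : ∃ x : ℕ → Cfsg.Spor.Fi23, x = fun g => if g < 9 then x23 (to23 (σ g)) else 1 := ⟨_, rfl⟩
  have hxval : ∀ {r : List ℕ}, (∀ g ∈ r, g < 9) → wordVal x r = wordVal x23 ((r.map σ).map to23) := fun {r} hr => by
    rw [val_congr (a := x) (b := fun g => x23 (to23 (σ g))) (fun g hg => by rw [hxdef]; exact if_pos (hr g hg)),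
      val_map (fun g => x23 (to23 g)) σ hσe hr, map_map_val]
    intro g hg
    obtain ⟨a, ha, rfl⟩ := List.mem_map.1 hg
    exact hσ9 a (hr a ha)
  have hrel : ∀ r ∈ Fi22Pres.numbering.pairs ++ Fi22Pres.extra,
      (wordVal L.y r = 1 ∧ wordVal x r = 1) ∨ (wordVal L.y r = z ∧ wordVal x r = delta23) := by
    intro r hr
    rcases List.mem_append.1 hr with hr | hr
    · left
      refine ⟨(hpairs r hr).1, ?_⟩
      rw [hxval (hpairs r hr).2, ← map_map_val (to23_pairs (hσpairs r hr)).2]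
      exact (to23_pairs (hσpairs r hr)).1
    · have hlt' : ∀ g ∈ r, g < 9 := by
        rcases hex r hr with rfl | rfl | rfl
        exacts [hlt 0 (by norm_num), hlt 1 (by norm_num), hlt 2 (by norm_num)]
      rw [hxval hlt']
      exact hx r hr
  have hkey : ∀ w ∈ [Fi22Pres.extra.getD 0 [], Fi22Pres.extra.getD 1 [], wordRight],
      (wordVal L.y (w.map σ) = 1 ∧ wordVal x23 (w.map to23) = 1) ∨
      (wordVal L.y (w.map σ) = z ∧ wordVal x23 (w.map to23) = delta23) := by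
    intro w hw
    have hwlt : ∀ g ∈ w, g < 9 := (hw' w (by simpa using hw)).1.1
    have hσlt : ∀ g ∈ w.map σ, g < 9 := fun g hg => by
      obtain ⟨a, ha, rfl⟩ := List.mem_map.1 hg
      exact hσ9 a (hwlt a ha)
    have h := transfer hd.central hd.sq L.y L.y_sq x
      (fun g => by
        rw [hxdef]
        show (if g < 9 then x23 (to23 (σ g)) else 1) * (if g < 9 then x23 (to23 (σ g)) else 1) = 1
        split_ifs
        exacts [to23_sq _, one_mul 1])
      (fun g => by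
        rw [hxdef]
        show Commute delta23 (if g < 9 then x23 (to23 (σ g)) else 1)
        split_ifs with h
        exacts [delta23_comm (hσ9 g h), Commute.one_right _])
      hrel hσlt (one22 (hW w hw))
    rwa [hxval hσlt, show (w.map σ).map σ = w by
      rw [List.map_map]
      exact (List.map_congr_left fun a ha => hσσ a (hwlt a ha)).trans (List.map_id w)] at h
  have hk9 : ∀ g < 9, g < T.A.k := fun g hg => T.hk.symm ▸ hg
  obtain ⟨p, hp⟩ : ∃ p : ℕ → Fin 3510, ∀ g, ∀ h : g < 9,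
      p g = ⟨T.A.pts.getD (σ g) 0, T.A.pts_lt (hk9 _ (hσ9 g h))⟩ :=
    ⟨fun g => if h : g < 9 then ⟨T.A.pts.getD (σ g) 0, T.A.pts_lt (hk9 _ (hσ9 g h))⟩
      else ⟨0, by norm_num⟩, fun g h => dif_pos h⟩
  have hy : ∀ g < 9, (fun g => L.y (σ g)) g = L.Y (p g) := fun g hg => by
    show L.y (σ g) = _
    rw [TransTable.Lifts.y, if_pos (hk9 _ (hσ9 g hg)), TransTable.Lifts.val,
      dif_pos (T.A.pts_lt (hk9 _ (hσ9 g hg))), hp g hg]
  have hmap : ∀ {r : List ℕ}, (∀ g ∈ r, g < 9) →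
      wordVal (fun g => L.y (σ g)) r = wordVal L.y (r.map σ) := fun hr => val_map _ σ hσe hr
  refine ⟨p, fun g => L.y (σ g), hy, fun r hr s hs => ?_, fun g => L.y_sq _, fun r hr => ?_, ?_, ?_, ?_, ?_⟩
  · obtain ⟨h1, h2⟩ := cm_gens T (hσ9 r hr) (hσ9 s hs)
    have hadj' : adjB (σ r) (σ s) = adjB r s := hσadj r hr s hs
    refine ⟨?_, fun hne e => h2 (fun e' => hne ?_) ?_⟩
    · rw [hp r hr, hp s hs, T.A.delta_pts (hk9 _ (hσ9 r hr)), T.A.delta_pts (hk9 _ (hσ9 s hs)), h1, hadj']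
    · rw [← hσσ r hr, e', hσσ s hs]
    · rw [hp r hr, hp s hs] at e
      exact congrArg Fin.val e
  · rw [hmap (hpairs r hr).2]
    exact (hpairs _ (hσpairs r hr)).1
  · rw [hmap (hlt 0 (by norm_num))]
    rcases hkey (Fi22Pres.extra.getD 0 []) (by simp) with h | h
    · exact h.1
    · exact absurd (((same23 o0).trans rfl).symm.trans h.2).symm delta23_ne
  · rw [hmap (hlt 1 (by norm_num))]
    rcases hkey (Fi22Pres.extra.getD 1 []) (by simp) with h | h
    · exact h.1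
    · exact absurd (((same23 o1).trans rfl).symm.trans h.2).symm delta23_ne
  · rw [hmap (hw' wordRight (by simp)).1.1]
    rcases hkey wordRight (by simp) with h | h
    · exact absurd ((same23 sW).symm.trans h.2) delta23_ne
    · exact h.1
  · rw [MonoidHom.map_closure, eq_top_iff, ← T.A.gen, Subgroup.closure_le]
    rintro _ ⟨g, hg, rfl⟩
    have hg9 : g < 9 := T.hk ▸ hg
    refine Subgroup.subset_closure ⟨L.y g, ⟨σ g, hσ9 g hg9, ?_⟩, L.proj_y hg⟩
    show L.y (σ (σ g)) = _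
    rw [hσσ g hg9]

end Cfsg.Lib.Fischer.Fi24Simple
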