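import Cfsg.Agent.Lib.Fischer.Fi24Simple.Data
import Cfsg.Agent.Lib.Fischer.Fi24Simple.FixSet

/-!
# Two copies of the group exchanged by an outer involution
-/

set_option autoImplicit false
set_option maxRecDepth 100000

namespace Cfsg.Lib.Fischer.Fi24Simple

open Cfsg Cfsg.Lib.CosetEnum Cfsg.Lib.BigPerm Cfsg.Lib.BigPerm.Fi24 Cfsg.Lib.BigPerm.Fi24Cert
open Cfsg.Lib.Fischer Cfsg.Lib.Fischer.Relations Cfsg.Lib.Fischer.M24 Cfsg.Lib.Fischer.Cent24

local notation "G1" => Cfsg.Spor.Fi24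
local notation "D1" => Cfsg.Lib.BigPerm.Fi24.D
local notation "x" => Cfsg.Lib.BigPerm.Fi24.x
local notation "nine" => ([3, 4, 5, 6, 7, 8, 9, 10, 11] : List ℕ)

attribute [local instance] fin24

/-- Two copies of a group, and a sign saying whether they are exchanged. -/
@[ext]
structure Two (G : Type*) where
  a : G
  b : G
  s : Bool

namespace Two

variable {G : Type*} [Group G]

instance : Mul (Two G) :=
  ⟨fun p q => ⟨p.a * bif p.s then q.b else q.a, p.b * bif p.s then q.a else q.b, xor p.s q.s⟩⟩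

instance : One (Two G) := ⟨⟨1, 1, false⟩⟩

instance : Inv (Two G) :=
  ⟨fun p => ⟨bif p.s then p.b⁻¹ else p.a⁻¹, bif p.s then p.a⁻¹ else p.b⁻¹, p.s⟩⟩

theorem mk_mul {a b c d : G} {s t : Bool} : (⟨a, b, s⟩ : Two G) * ⟨c, d, t⟩ =
    ⟨a * bif s then d else c, b * bif s then c else d, xor s t⟩ := rfl

theorem one_def : (1 : Two G) = ⟨1, 1, false⟩ := rfl

theorem mk_inv {a b : G} {s : Bool} : (⟨a, b, s⟩ : Two G)⁻¹ =
    ⟨bif s then b⁻¹ else a⁻¹, bif s then a⁻¹ else b⁻¹, s⟩ := rfl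

instance : Group (Two G) :=
  Group.ofLeftAxioms
    (fun ⟨a, b, s⟩ ⟨c, d, t⟩ ⟨e, g, r⟩ => by cases s <;> cases t <;> cases r <;> simp [mk_mul, mul_assoc])
    (fun ⟨a, b, s⟩ => by cases s <;> simp [mk_mul, one_def])
    (fun ⟨a, b, s⟩ => by cases s <;> simp [mk_mul, mk_inv, one_def])

instance [Finite G] : Finite (Two G) :=
  Finite.of_injective (fun p : Two G => (p.a, p.b, p.s)) fun p q h => by
    simp only [Prod.mk.injEq] at h; exact Two.ext h.1 h.2.1 h.2.2

/-- The pairs not exchanged. -/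
def base (G : Type*) [Group G] : Subgroup (Two G) where
  carrier := {p | p.s = false}
  one_mem' := rfl
  mul_mem' := fun {p q} hp hq => show xor p.s q.s = false by
    rw [show p.s = false from hp, show q.s = false from hq]; rfl
  inv_mem' := fun {p} hp => hp

theorem mem_base {p : Two G} : p ∈ base G ↔ p.s = false := Iff.rfl

theorem base_index : (base G).index = 2 := by
  rw [Subgroup.index_eq_two_iff]
  refine ⟨⟨1, 1, true⟩, fun p => ?_⟩
  rcases p with ⟨a, b, _ | _⟩ <;> simp [mem_base, mk_mul, Xor']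

/-- The diagonal. -/
def diag : G →* Two G where
  toFun g := ⟨g, g, false⟩
  map_one' := rfl
  map_mul' g h := rfl

theorem diag_apply (g : G) : diag g = ⟨g, g, false⟩ := rfl

/-- The first coordinate off the exchange. -/
theorem fst_mul {p q : Two G} (hp : p ∈ base G) : (p * q).a = p.a * q.a := by
  rcases p with ⟨a, b, s⟩
  obtain rfl : s = false := hp
  rfl

end Two

variable {G : Type*} [Group G] {C : Subgroup G} {t o t2 : G} {ι : Cfsg.Spor.Fi23 →* G}

open Two

/-- The exchange. -/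
abbrev σ (G : Type*) [Group G] : Two G := ⟨1, 1, true⟩

theorem Big.side (B : Big C t o t2 ι) :
    Cent24.Side (base G) (σ G) (diag t) ⟨o, o * t, false⟩ (diag t2) (diag.comp ι) := by
  have hinj : Function.Injective (diag : G →* Two G) := fun g h e => congrArg Two.a e
  have ht : t * t = 1 := by rw [← B.t_eq, ← map_mul, Cent23.delta23_sq, map_one]
  have hit : t⁻¹ = t := inv_eq_of_mul_eq_one_right ht
  have hback : ∀ {u}, ι u ∈ C → Commute u Cent23.delta23 := fun {u} hu => B.inj (by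
    rw [map_mul, map_mul, B.t_eq]; exact (B.comm _ hu).eq)
  have hoo : o * o ∈ C := B.index o o B.o_t B.o_t B.o_out B.o_out
  refine ⟨base_index, by simp [mk_mul, one_def], by simp [mem_base], hinj.comp B.inj, fun u => rfl,
    fun u => Two.ext (by simp [MonoidHom.comp_apply, diag_apply, mk_mul]) (by simp [MonoidHom.comp_apply,
      diag_apply, mk_mul]) rfl, by rw [MonoidHom.comp_apply, B.t_eq], rfl, ?_, ?_, fun u hu => ?_, ?_, ?_, ?_,
    B.t2_t.map diag, fun e => B.t2_ne (hinj e), fun k hk hkd hkt hk2 => ?_, B.perfect⟩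
  · refine Two.ext ?_ ?_ rfl <;> simp only [diag_apply, mk_mul, cond_false]
    · exact B.o_t.eq
    · rw [mul_assoc, ht, mul_one, ← mul_assoc, ← B.o_t.eq, mul_assoc, ht, mul_one]
  · refine Two.ext ?_ ?_ rfl <;> simp only [diag_apply, mk_mul, mk_inv, cond_false, cond_true, mul_one, one_mul,
      Bool.false_bne, Bool.xor_false]
    · rw [mul_inv_rev, hit, ← mul_assoc, B.o_t.eq, mul_inv_cancel_right]
    · rw [B.o_t.eq, mul_inv_cancel_right]
  · have hc := B.norm o B.o_t _ (B.cent u hu)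
    obtain ⟨v, hv⟩ := B.lift _ hc
    refine ⟨v, ?_⟩
    refine Two.ext ?_ ?_ rfl <;> simp only [MonoidHom.comp_apply, diag_apply, mk_mul, mk_inv, cond_false, Bool.xor_self, hv]
    rw [mul_inv_rev, mul_assoc o t, ← (B.comm _ (B.cent u hu)).eq]
    group
  · obtain ⟨v, hv⟩ := B.lift _ hoo
    refine ⟨v, Two.ext ?_ ?_ rfl⟩ <;> simp only [MonoidHom.comp_apply, diag_apply, mk_mul, cond_false, hv]
    rw [show o * t * (o * t) = o * (t * o) * t by group, ← B.o_t.eq, ← mul_assoc, mul_assoc _ t t, ht, mul_one]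
  · refine Two.ext ?_ ?_ rfl <;> simp only [diag_apply, mk_mul, mk_inv, cond_false, Bool.xor_self]
    · exact B.o_t2
    · rw [mul_inv_rev, show o * t * t2 * (t⁻¹ * o⁻¹) = o * (t * t2 * t⁻¹) * o⁻¹ by group, ← B.t2_t.eq,
        mul_inv_cancel_right, B.o_t2]
  · obtain ⟨u, hu, e⟩ := B.t2_mem
    exact ⟨u, hu, by rw [MonoidHom.comp_apply, e]⟩
  · obtain ⟨a, b, s⟩ := k
    obtain rfl : s = false := hk
    have hab : a = b := by
      have := congrArg Two.a hkd.eq
      simpa [mk_mul] using this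
    subst hab
    have h1 : Commute a t := congrArg Two.a hkt.eq
    have h2 : Commute a t2 := congrArg Two.a hk2.eq
    obtain ⟨u, rfl⟩ := B.lift a (B.pair a h1 h2)
    exact ⟨u, rfl⟩

variable [Finite G]

section

variable {G₀ : Subgroup (Two G)} {d τ o' τ₂ : Two G} {j : Cfsg.Spor.Fi23 →* Two G} {a : G1} {r : G1 × Two G}

/-- What centralises a triangle is transported from the centraliser of a neighbour. -/
theorem exists_via (S : Cent24.Side G₀ d τ o' τ₂ j) (Sd : Seed D1 (x 0) d (toX j d) a r) (hat : toX j d a = d * τ)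
    {m v w y : G1} (hm0 : Commute m (x 0)) (em : m * a * m⁻¹ = v) (hv : v ∈ perp D1 (x 0)) (hw : w ∈ perp D1 (x 0))
    (hy : y ∈ perp D1 (x 0)) (hvw : w ∈ perp D1 v) (hvy : y ∈ perp D1 v) (hwy : y ∈ perp D1 w) {k : Two G}
    (hk : k ∈ G₀) (kv : Commute k (toX j d v)) (kw : Commute k (toX j d w)) (ky : Commute k (toX j d y)) :
    ∃ π, π ∈ D24 ∧ Commute π v ∧ Side.via j d r m π = k := by
  obtain ⟨d0, K⟩ := exists_data
  have P := S.twin
  obtain ⟨a', a2, ha', ha2, ha2a, hfa, hfa2⟩ := S.base_triad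
  obtain rfl : a' = a := P.inj _ _ ha'.2.2.symm Sd.mem.2.2.symm (hfa.trans hat.symm)
  have h0 : x 0 ∈ D1 := x_mem (by decide)
  -- the pulled back pair
  obtain ⟨W, hW⟩ : ∃ W : G1 → G1, ∀ w, W w = r.1 * (m⁻¹ * w * m) * r.1 := ⟨_, fun _ => rfl⟩
  have hd1 : ∀ {w}, w ∈ perp D1 (x 0) → Commute (m⁻¹ * w * m) (x 0) := fun hw =>
    (hm0.inv_left.mul_left hw.2.2.symm).mul_left hm0
  have hWp : ∀ {w}, w ∈ perp D1 v → W w ∈ perp D1 (x 0) := fun {w} hw => by
    have h1 : m⁻¹ * w * m ∈ perp D1 a' := (mem_perp_conj K.trans m a' w).1 (by rw [em]; exact hw)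
    have := conj_perp K.fis r.1 a' h1
    rwa [Sd.inv₁, Sd.back₁, ← hW] at this
  have hWy : W y ∈ perp D1 (W w) := by
    have h1 : m⁻¹ * y * m ∈ perp D1 (m⁻¹ * w * m) := (mem_perp_conj K.trans m _ y).1 (by
      rwa [show m * (m⁻¹ * w * m) * m⁻¹ = w by group])
    have := conj_perp K.fis r.1 _ h1
    rwa [Sd.inv₁, ← hW, ← hW] at this
  obtain ⟨g, g0, gw, gy⟩ := K.tri_transitive (⟨Sd.mem, ha2, ha2a⟩ : Triad D1 (x 0) a' a2) h0
    (⟨hWp hvw, hWp hvy, hWy⟩ : Triad D1 (x 0) (W w) (W y)) h0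
  have hg : Commute g (x 0) := mul_inv_eq_iff_eq_mul.1 g0
  obtain ⟨T, hT⟩ : ∃ T, T = toX j d m * r.2 * toX j d g := ⟨_, rfl⟩
  have hTd : T * d * T⁻¹ = toX j d v := by
    rw [hT, show toX j d m * r.2 * toX j d g * d * (toX j d m * r.2 * toX j d g)⁻¹ =
      toX j d m * (r.2 * (toX j d g * d * (toX j d g)⁻¹) * r.2⁻¹) * (toX j d m)⁻¹ by group,
      (P.maps g hg).eq, mul_inv_cancel_right, Sd.inv₂, Sd.move₂, ← P.map_conj hm0 Sd.mem.2.2.symm, em]
  have hpull : ∀ {b w : G1}, Commute b (x 0) → g * b * g⁻¹ = W w → w ∈ perp D1 (x 0) → w ∈ perp D1 v →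
      T * toX j d b * T⁻¹ = toX j d w := fun {b w} hb e hw hvw => by
    have hw1d := hd1 hw
    have hw1a : Commute (m⁻¹ * w * m) a' := Side.back em hvw.2.2.symm
    rw [hT, show toX j d m * r.2 * toX j d g * toX j d b * (toX j d m * r.2 * toX j d g)⁻¹ =
      toX j d m * (r.2 * (toX j d g * toX j d b * (toX j d g)⁻¹) * r.2⁻¹) * (toX j d m)⁻¹ by group,
      ← P.map_conj hg hb, e, Sd.inv₂, hW, ← Sd.apply (Sd.to_d hw1a) (Sd.to_a hw1d),
      show r.1 * (r.1 * (m⁻¹ * w * m) * r.1) * r.1 = r.1 * r.1 * (m⁻¹ * w * m) * (r.1 * r.1) by group, Sd.sq₁,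
      one_mul, mul_one, ← P.map_conj hm0 hw1d]
    congr 1
    group
  haveI : G₀.Normal := Subgroup.normal_of_index_eq_two S.index
  obtain ⟨k', hk'⟩ : ∃ k', k' = T⁻¹ * k * T := ⟨_, rfl⟩
  have hk'G : k' ∈ G₀ := by
    have := ‹G₀.Normal›.conj_mem k hk T⁻¹
    rwa [inv_inv, ← hk'] at this
  have pull : ∀ {p q : Two G}, T * p * T⁻¹ = q → Commute k q → Commute k' p := fun {p q} e hq => by
    rw [← Commute.conj_iff T, hk', show T * (T⁻¹ * k * T) * T⁻¹ = k by group, e]
    exact hq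
  have k1 : Commute k' d := pull hTd kv
  have hdd : ∀ {p : Two G}, Commute k' (d * p) → Commute k' p := fun {p} hp => by
    have := k1.mul_right hp
    rwa [← mul_assoc, S.dd, one_mul] at this
  obtain ⟨u, hu⟩ := S.pair k' hk'G k1 (hdd (hfa ▸ pull (hpull Sd.mem.2.2.symm gw hw hvw) kw))
    (hdd (hfa2 ▸ pull (hpull ha2.2.2.symm gy hy hvy) ky))
  obtain ⟨g', hg', eg'⟩ := S.lift_iota u
  have hg'D : g' ∈ D24 := (S.toX_mem_iff (mem_H_iff.2 hg')).1 (by rw [eg']; exact S.mem u)
  obtain ⟨p, hp⟩ : ∃ p, p = g * g' * g⁻¹ := ⟨_, rfl⟩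
  have hp0 : Commute p (x 0) := hp ▸ (hg.mul_left hg').mul_left hg.inv_left
  refine ⟨m * (r.1 * p * r.1) * m⁻¹, ?_, ?_, ?_⟩
  · haveI : (D24 : Subgroup G1).Normal := inferInstance
    refine ‹(D24 : Subgroup G1).Normal›.conj_mem _ ?_ m
    have := ‹(D24 : Subgroup G1).Normal›.conj_mem _ (hp ▸ ‹(D24 : Subgroup G1).Normal›.conj_mem _ hg'D g) r.1
    rwa [Sd.inv₁] at this
  · rw [← em, Commute.conj_iff]
    exact Sd.to_a hp0
  · rw [Side.via, M24.lift, show m⁻¹ * (m * (r.1 * p * r.1) * m⁻¹) * m = r.1 * p * r.1 by group,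
      show r.1 * (r.1 * p * r.1) * r.1 = r.1 * r.1 * p * (r.1 * r.1) by group, Sd.sq₁, one_mul, mul_one, hp,
      P.map_conj hg hg', eg', hu, hk', hT]
    simp only [mul_inv_rev, Sd.inv₂]
    group
    simp [pow_two, Sd.sq₂, Sd.inv₂, mul_assoc]

end

set_option maxHeartbeats 1000000 in
/-- In two copies the outer involutions are steady. -/
theorem Big.steady (B : Big C t o t2 ι) {a : G1} {r : G1 × Two G}
    (Sd : Seed D1 (x 0) (σ G) (toX (diag.comp ι) (σ G)) a r)
    (hat : toX (diag.comp ι) (σ G) a = σ G * diag t) : Steady (base G) (diag.comp ι) (σ G) := by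
  intro u u' _ hu' _ hsq _ hpair v hv
  obtain ⟨d0, K⟩ := exists_data
  have S := B.side
  obtain ⟨j, hj⟩ : ∃ j, j = (diag : G →* Two G).comp ι := ⟨_, rfl⟩
  rw [← hj] at S Sd hat hpair ⊢
  have P := S.twin
  have h0 : x 0 ∈ D1 := x_mem (by decide)
  have hN : ∀ n ∈ nine, x n ∈ perp D1 (x 0) := fun n hn => nine_perp hn
  have hb : ∀ n, ∃ b : G, n ∈ nine → toX j (σ G) (x n) = ⟨b, b, true⟩ ∧ b * b = 1 := fun n => by
    by_cases hn : n ∈ nine
    · refine ⟨ι (proj ⟨x n, perp_H (hN n hn)⟩), fun _ => ⟨?_, ?_⟩⟩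
      · rw [S.toX_perp (hN n hn), hj, MonoidHom.comp_apply, diag_apply, mk_mul]
        simp
      · have e : proj ⟨x n, perp_H (hN n hn)⟩ * proj ⟨x n, perp_H (hN n hn)⟩ = 1 := by
          rw [← map_mul, ← map_one proj]
          exact congrArg proj (Subtype.ext (x_mul_self n))
        rw [← map_mul, e, map_one]
    · exact ⟨1, fun h => absurd h hn⟩
  choose b hb using hb
  obtain ⟨P0, Q0, s⟩ := u'
  obtain rfl : s = true := by
    cases s
    · exact absurd rfl hu'
    · rfl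
  have hQ : Q0 = P0⁻¹ := by
    have := congrArg Two.a hsq
    rw [mk_mul, one_def] at this
    exact eq_inv_of_mul_eq_one_right this
  subst hQ
  have hpc : ∀ v ∈ nine, ∀ w ∈ nine, Commute P0 (b v * b w) := fun v hv w hw => by
    have := congrArg Two.a (hpair v hv w hw).eq
    rw [(hb v hv).1, (hb w hw).1] at this
    simpa [mk_mul, mul_assoc, Commute, SemiconjBy] using this
  obtain ⟨P', hP'⟩ : ∃ P', P' = b 9 * P0 * b 9 := ⟨_, rfl⟩
  have hsame : ∀ w ∈ nine, b w * P0 * b w = P' := fun w hw => by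
    have hw' := (hb w hw).2
    have h9 := (hb 9 (by decide)).2
    rw [hP']
    calc b w * P0 * b w = b w * P0 * (b w * b 9) * b 9 := by rw [mul_assoc _ (b w * b 9), mul_assoc (b w) (b 9) (b 9), h9, mul_one]
      _ = b w * (b w * b 9) * P0 * b 9 := by rw [mul_assoc (b w) P0, (hpc w hw 9 (by decide)).eq, ← mul_assoc]
      _ = b 9 * P0 * b 9 := by rw [← mul_assoc (b w) (b w), hw', one_mul]
  have hsame' : ∀ w ∈ nine, b w * P' * b w = P0 := fun w hw => by
    rw [← hsame w hw, show b w * (b w * P0 * b w) * b w = b w * b w * P0 * (b w * b w) by group, (hb w hw).2]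
    group
  obtain ⟨k, hk⟩ : ∃ k : Two G, k = ⟨P0, P', false⟩ := ⟨_, rfl⟩
  have hkG : k ∈ base G := hk ▸ rfl
  have hkn : ∀ w ∈ nine, Commute k (toX j (σ G) (x w)) := fun w hw => by
    rw [hk, (hb w hw).1]
    refine Two.ext ?_ ?_ rfl <;> simp only [mk_mul, cond_false, cond_true]
    · rw [← hsame' w hw, mul_assoc _ (b w) (b w), (hb w hw).2, mul_one]
    · rw [← hsame w hw, mul_assoc _ (b w) (b w), (hb w hw).2, mul_one]
  obtain ⟨m, hm, em⟩ := perp_transitive K.fis h0 Sd.mem (hN 9 (by decide))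
  have hm0 : Commute m (x 0) := mem_H_iff.1 (closure_perp_H hm)
  have hperp : ∀ {p q}, p ∈ nine → q ∈ nine → q ≠ p → [q, p, q, p] ∈ numbering.pairs → x q ∈ perp D1 (x p) :=
    fun {p q} hp hq hne h =>
      ⟨x_mem (nine_lt hq).1, x_ne (nine_lt hq).1 (nine_lt hp).1 hne, x_comm (nine_lt hp).1 (nine_lt hq).1 h⟩
  obtain ⟨π, hπD, hπ9, hπk⟩ := exists_via S Sd hat hm0 em (hN 9 (by decide)) (hN 3 (by decide)) (hN 5 (by decide))
    (hperp (by decide) (by decide) (by decide) (by decide +kernel))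
    (hperp (by decide) (by decide) (by decide) (by decide +kernel))
    (hperp (by decide) (by decide) (by decide) (by decide +kernel)) hkG (hkn 9 (by decide)) (hkn 3 (by decide))
    (hkn 5 (by decide))
  have vinj : ∀ {h c g g' : G1}, h * a * h⁻¹ = c → Commute g c → Commute g' c →
      Side.via j (σ G) r h g = Side.via j (σ G) r h g' → g = g' := fun {h c g g'} e hg hg' hh => by
    rw [Side.via, Side.via] at hh
    have := P.lift_inj Sd (Side.back e hg) (Side.back e hg') (mul_left_cancel (mul_right_cancel hh))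
    exact mul_left_cancel (mul_right_cancel this : h⁻¹ * g = h⁻¹ * g')
  have vcomm : ∀ {h c g g' : G1}, h * a * h⁻¹ = c → Commute g c → Commute g' c →
      Commute (Side.via j (σ G) r h g) (Side.via j (σ G) r h g') → Commute g g' := fun {h c g g'} e hg hg' hh =>
    vinj e (hg.mul_left hg') (hg'.mul_left hg) (by
      rw [Side.via_mul S Sd e hg hg', Side.via_mul S Sd e hg' hg, hh.eq])
  have c9 : ∀ n ∈ nine, n ≠ 8 → Commute (x n) (x 9) := fun n hn h8 => by
    by_cases h9 : n = 9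
    · subst h9; exact Commute.refl _
    · exact x_comm (nine_lt hn).1 (by decide)
        ((show ∀ g ∈ nine, g ≠ 8 → g ≠ 9 → [9, g, 9, g] ∈ numbering.pairs by decide +kernel) n hn h8 h9)
  have hπn : ∀ n ∈ nine, Commute π (x n) := fun n hn => by
    by_cases h8 : n = 8
    · subst h8
      have h11 := hN 11 (by decide)
      have c911 : Commute (x 9) (x 11) := (c9 11 (by decide) (by decide)).symm
      have hπ11 : Commute π (x 11) := vcomm em hπ9 c911.symm (by
        rw [hπk, Side.via_fix S Sd hm0 em h11.2.2.symm c911.symm]; exact hkn 11 (by decide))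
      obtain ⟨c, hc⟩ : ∃ c, c = m⁻¹ * x 11 * m := ⟨_, rfl⟩
      have hcp : c ∈ perp D1 (x 0) := by
        have := conj_perp K.fis m⁻¹ (x 0) h11
        rwa [(hm0.inv_left).eq, mul_inv_cancel_right, inv_inv, ← hc] at this
      have hca : c ∈ perp D1 a := by
        rw [hc, ← mem_perp_conj K.trans, em]
        exact ⟨x_mem (by decide), x_ne (by decide) (by decide) (by decide), c911⟩
      have hgc : Commute (m⁻¹ * π * m) c := by
        rw [hc, ← Commute.conj_iff m]
        simpa [mul_assoc] using hπ11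
      obtain ⟨h, hh, eh, hcase⟩ := S.triangle rfl Sd hcp hca (Side.back em hπ9) hgc
      have emh : m * h * a * (m * h)⁻¹ = x 11 := by
        rw [show m * h * a * (m * h)⁻¹ = m * (h * a * h⁻¹) * m⁻¹ by group, eh, hc]
        group
      have c811 : Commute (x 8) (x 11) := x_comm (by decide) (by decide) (by decide +kernel)
      refine vcomm emh hπ11 c811 ?_
      rw [Side.via_fix S Sd (hm0.mul_left hh) emh (hN 8 (by decide)).2.2.symm c811, Side.via_conj S Sd hh hm0]
      have k8 := hkn 8 (by decide)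
      have cd8 : Commute (σ G) (toX j (σ G) (x 8)) := (P.maps _ (hN 8 (by decide)).2.2.symm).symm
      rcases hcase with e | e
      · rw [Side.via, e, ← Side.via, hπk]; exact k8
      · rw [Side.via, e, show toX j (σ G) m * (σ G * M24.lift (toX j (σ G)) r (m⁻¹ * π * m) * σ G) * (toX j (σ G) m)⁻¹ =
            toX j (σ G) m * σ G * M24.lift (toX j (σ G)) r (m⁻¹ * π * m) * (σ G * (toX j (σ G) m)⁻¹) by group,
          (P.maps m hm0).eq, (P.maps m hm0).inv_left.eq.symm,
          show σ G * toX j (σ G) m * M24.lift (toX j (σ G)) r (m⁻¹ * π * m) * ((toX j (σ G) m)⁻¹ * σ G) =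
            σ G * (toX j (σ G) m * M24.lift (toX j (σ G)) r (m⁻¹ * π * m) * (toX j (σ G) m)⁻¹) * σ G by group,
          ← Side.via, hπk]
        exact (cd8.mul_left k8).mul_left cd8
    · refine vcomm em hπ9 (c9 n hn h8) ?_
      rw [hπk, Side.via_fix S Sd hm0 em (hN n hn).2.2.symm (c9 n hn h8)]
      exact hkn n hn
  have hinv := inverted hπD hπn
  have c09 : Commute (x 0) (x 9) := (hN 9 (by decide)).2.2
  have v0 : Side.via j (σ G) r m (x 0) = σ G := by
    rw [Side.via_fix S Sd hm0 em (Commute.refl _) c09, P.base]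
  have v1 : Side.via j (σ G) r m 1 = 1 := by
    rw [Side.via_fix S Sd hm0 em (Commute.one_left _) (Commute.one_left _), P.map_one]
  have hkk : σ G * k * σ G * k = 1 := by
    rw [show σ G * k * σ G * k = Side.via j (σ G) r m (x 0) * Side.via j (σ G) r m π *
        Side.via j (σ G) r m (x 0) * Side.via j (σ G) r m π by rw [v0, hπk], ← Side.via_mul S Sd em c09 hπ9, ← Side.via_mul S Sd em (c09.mul_left hπ9) c09,
      ← Side.via_mul S Sd em ((c09.mul_left hπ9).mul_left c09) hπ9, hinv, inv_mul_cancel, v1]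
  have hPP : P' * P0 = 1 := by
    have := congrArg Two.a hkk
    simpa [hk, mk_mul, one_def] using this
  rw [(hb v hv).1]
  have hv' : b v * P0 * b v = P0⁻¹ := by rw [hsame v hv]; exact eq_inv_of_mul_eq_one_left hPP
  refine Two.ext ?_ ?_ rfl <;> simp only [mk_mul, cond_true]
  · rw [← hv', show b v * (b v * P0 * b v) = b v * b v * P0 * b v by group, (hb v hv).2, one_mul]
  · rw [← hv', mul_assoc _ (b v) (b v), (hb v hv).2, mul_one]

end Cfsg.Lib.Fischer.Fi24Simple
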