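import Cfsg.Agent.Lib.Fischer.Fi24Simple.Two

/-!
# The simple subgroup of the presented Fi24 is the whole group
-/

set_option autoImplicit false
set_option maxRecDepth 100000

namespace Cfsg.Lib.Fischer.Fi24Simple

open Cfsg Cfsg.Lib.CosetEnum Cfsg.Lib.BigPerm Cfsg.Lib.BigPerm.Fi24 Cfsg.Lib.BigPerm.Fi24Cert
open Cfsg.Lib.Fischer Cfsg.Lib.Fischer.Relations Cfsg.Lib.Fischer.M24 Cfsg.Lib.Fischer.Cent24
open Two

local notation "G1" => Cfsg.Spor.Fi24
local notation "D1" => Cfsg.Lib.BigPerm.Fi24.D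
local notation "x" => Cfsg.Lib.BigPerm.Fi24.x

attribute [local instance] fin24

variable {G : Type*} [Group G] [Finite G] {C : Subgroup G} {t o t2 : G} {ι : Cfsg.Spor.Fi23 →* G}

set_option maxHeartbeats 1000000 in
/-- The group is the derived subgroup of the presented Fi24. -/
theorem Big.iso (B : Big C t o t2 ι) {z : G} (hz : orderOf z = 2) (htz : Commute t z)
    (hcard : Nat.card ↥(Subgroup.centralizer ({z} : Set G)) = 2 * (3 * 2 ^ 13 * 3265920)) :
    Cfsg.Spor.IsoFi24' G := by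
  classical
  obtain ⟨d0, K⟩ := exists_data
  have S := B.side
  obtain ⟨a, r, Sd, hat⟩ := S.exists_seed
  obtain ⟨Φ, hinj, hH, hpar⟩ := Side.exists_hom S Sd (B.steady Sd hat)
  have P := S.twin
  haveI hN : (D24 : Subgroup G1).Normal := inferInstance
  haveI : IsSimpleGroup ↥(D24 : Subgroup G1) := Cfsg.Lib.BigPerm.Fi24.isFi24'.1
  obtain ⟨Ψ, hΨ⟩ : ∃ Ψ : ↥(D24 : Subgroup G1) →* G, ∀ g : ↥(D24 : Subgroup G1), Ψ g = (Φ g).a :=
    ⟨MonoidHom.mk' (fun g => (Φ g).a) fun g h => by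
      rw [Subgroup.coe_mul, map_mul, Two.fst_mul ((hpar g).2 g.2)], fun _ => rfl⟩
  have hdia : ∀ u, ∃ g : ↥(D24 : Subgroup G1), Commute (g : G1) (x 0) ∧ Ψ g = ι u := fun u => by
    obtain ⟨g, hg, e⟩ := S.lift_iota u
    have hgD : g ∈ D24 := (S.toX_mem_iff (mem_H_iff.2 hg)).1 (by rw [e]; exact S.mem u)
    exact ⟨⟨g, hgD⟩, hg, by rw [hΨ, hH g (mem_H_iff.2 hg), e]; rfl⟩
  have ht1 : t ≠ 1 := by
    rw [← B.t_eq]
    exact fun e => Cent23.delta23_ne (B.inj (e.trans (map_one ι).symm))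
  have htt : t * t = 1 := by rw [← B.t_eq, ← map_mul, Cent23.delta23_sq, map_one]
  have hΨinj : Function.Injective Ψ := by
    rw [← MonoidHom.ker_eq_bot_iff]
    refine Ψ.normal_ker.eq_bot_or_eq_top.resolve_right fun h => ht1 ?_
    obtain ⟨g, -, e⟩ := hdia Cent23.delta23
    rw [← B.t_eq, ← e, MonoidHom.mem_ker.1 (h ▸ Subgroup.mem_top g)]
  -- the transposition's product
  have hd : Φ (x 0) = σ G := by rw [hH _ l_mem, S.toX_x0]
  have ha : Φ a = σ G * diag t := by rw [hH _ (perp_H Sd.mem), hat]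
  have ht : Φ (x 0 * a) = diag t := by rw [map_mul, hd, ha, ← mul_assoc, S.dd, one_mul]
  obtain ⟨p, hpD, hpa, hpb⟩ : ∃ p, p ∈ D24 ∧ p * x 0 * p⁻¹ = a ∧ p * a * p⁻¹ = x 0 := by
    have e : r.1 * x 0 * r.1⁻¹ = a := by rw [Sd.inv₁]; exact Sd.move₁
    have e' : r.1 * a * r.1⁻¹ = x 0 := by rw [Sd.inv₁]; exact Sd.back₁
    by_cases h : r.1 ∈ D24
    · exact ⟨r.1, h, e, e'⟩
    · refine ⟨r.1 * x 0, mem_D24_mul h (by decide), by rw [← e]; group, ?_⟩
      rw [show r.1 * x 0 * a * (r.1 * x 0)⁻¹ = r.1 * (x 0 * a * (x 0)⁻¹) * r.1⁻¹ by group, Sd.mem.2.2.eq,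
        mul_inv_cancel_right, e']
  have htD : x 0 * a ∈ D24 := (Subgroup.mul_mem_iff_of_index_two Cfsg.Agent.S1691.result).2
    (iff_of_false (x_not_mem (by decide)) (mem_out Sd.mem.1))
  have hA : Commute (Ψ ⟨p, hpD⟩) t ∧ Ψ ⟨p, hpD⟩ ∉ C := by
    have e : Φ p * σ G * (Φ p)⁻¹ = σ G * diag t := by
      rw [← hd, ← map_inv, ← map_mul, ← map_mul, hpa, hd, ← ha]
    have h := (hpar p).2 hpD
    rw [hΨ]
    show Commute (Φ p).a t ∧ (Φ p).a ∉ C
    obtain ⟨A, A', s, hΦp⟩ : ∃ A A' s, Φ p = (⟨A, A', s⟩ : Two G) := ⟨_, _, _, rfl⟩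
    rw [hΦp] at e h ⊢
    obtain rfl : s = false := h
    have e1 := congrArg Two.a e
    have e2 := congrArg Two.b e
    simp [mk_mul, mk_inv, diag_apply] at e1 e2
    have hA' : A' = t * A := by
      rw [← e2]
      group
    subst hA'
    have hc : Commute A t := by
      have hp' : Commute p (x 0 * a) := mul_inv_eq_iff_eq_mul.1 (by
        rw [show p * (x 0 * a) * p⁻¹ = p * x 0 * p⁻¹ * (p * a * p⁻¹) by group, hpa, hpb, Sd.mem.2.2.eq])
      have h := congrArg Two.a (hp'.map Φ).eq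
      rw [ht, hΦp] at h
      simpa [mk_mul, diag_apply, Commute, SemiconjBy] using h
    refine ⟨hc, fun hC => ?_⟩
    obtain ⟨u, hu⟩ := B.lift A hC
    obtain ⟨g, hg, eg⟩ := hdia u
    have hpg : (⟨p, hpD⟩ : ↥(D24 : Subgroup G1)) = g := hΨinj (by rw [hΨ, eg, hu, hΦp])
    refine Sd.mem.2.1 ?_
    rw [← hpa, show p = (g : G1) from congrArg Subtype.val hpg, hg.eq, mul_inv_cancel_right]
  have hCt : ∀ c, Commute c t → c ∈ Ψ.range := fun c hc => by
    have hC : ∀ c ∈ C, c ∈ Ψ.range := fun c hc => by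
      obtain ⟨u, rfl⟩ := B.lift c hc
      obtain ⟨g, -, e⟩ := hdia u
      exact ⟨g, e⟩
    by_cases hcC : c ∈ C
    · exact hC c hcC
    · have := hC _ (B.index c _ hc hA.1 hcC hA.2)
      simpa using mul_mem this (inv_mem (⟨_, rfl⟩ : Ψ ⟨p, hpD⟩ ∈ Ψ.range))
  have htp : Ψ ⟨x 0 * a, htD⟩ = t := by rw [hΨ, ht]; rfl
  -- the classes
  have ht2 : IsProd D1 2 (x 0 * a) := ⟨[x 0, a], by simp [Sd.mem.2.1.symm], rfl,
    by simp [x_mem (g := 0) (by decide), Sd.mem.1], by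
      simp only [List.mem_cons, List.not_mem_nil, or_false]
      rintro p (rfl | rfl) q (rfl | rfl)
      exacts [Commute.refl _, Sd.mem.2.2, Sd.mem.2.2.symm, Commute.refl _], by simp⟩
  have hout : ∀ {n : ℕ} {v : G1}, 1 ≤ n → IsProd D1 n v → ∃ e ∈ D1, Commute e v := fun {n v} hn hv => by
    obtain ⟨l, -, hl, hlD, hc, rfl⟩ := hv
    match l, hl with
    | [], h => simp at h; omega
    | e :: l, _ => exact ⟨e, hlD e (by simp), Commute.list_prod_right _ _ fun q hq => hc e (by simp) q hq⟩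
  have hlift : ∀ {n : ℕ} {v w : G1}, 1 ≤ n → n ≤ 4 → IsProd D1 n v → IsProd D1 n w →
      ∃ g, g ∈ D24 ∧ g * v * g⁻¹ = w := fun {n v w} h1 h4 hv hw => by
    obtain ⟨g, hg⟩ := isConj_iff.1 (K.isConj_prod h1 h4 hv hw)
    by_cases h : g ∈ D24
    · exact ⟨g, h, hg⟩
    · obtain ⟨e, he, hev⟩ := hout h1 hv
      refine ⟨g * e, (Subgroup.mul_mem_iff_of_index_two Cfsg.Agent.S1691.result).2 (iff_of_false h (mem_out he)), ?_⟩
      rw [show g * e * v * (g * e)⁻¹ = g * (e * v * e⁻¹) * g⁻¹ by group, hev.eq, mul_inv_cancel_right, hg]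
  have hclass : ∀ v : G1, v * v = 1 → v ≠ 1 → v ∈ D24 → IsProd D1 2 v ∨ IsProd D1 4 v := by
    intro v hv hv1 hvD
    obtain ⟨n, hn, hp⟩ := K.isProd_of_sq hv
    obtain ⟨l, -, hl, hlD, -, e⟩ := id hp
    have he : Even n := by rw [← hl, ← Cent24.prod_mem_D24_iff l hlD, e]; exact hvD
    have hn0 : n ≠ 0 := fun h => hv1 (by rw [← e, List.length_eq_zero_iff.1 (hl.trans h)]; rfl)
    obtain ⟨n', rfl⟩ := he
    have hp' : IsProd D1 (n' + n') v := hp
    rcases (show n' = 1 ∨ n' = 2 by omega) with rfl | rfl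
    exacts [Or.inl hp', Or.inr hp']
  have h13 : 13 ∣ Nat.card ↥(Subgroup.centralizer ({t} : Set G)) := by
    refine Cent24.thirteen_dvd_cent23.trans ?_
    rw [← Subgroup.card_map_of_injective (f := ι) B.inj]
    refine Subgroup.card_dvd_of_le ?_
    rintro _ ⟨u, hu, rfl⟩
    rw [Subgroup.mem_centralizer_singleton_iff, ← B.t_eq]
    exact ((show Commute u Cent23.delta23 from Subgroup.mem_centralizer_singleton_iff.1 hu).map ι).eq
  have hne : ¬ IsConj z t := by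
    intro hc
    obtain ⟨g, hg⟩ := isConj_iff.1 hc
    have : Nat.card ↥(Subgroup.centralizer ({z} : Set G)) = Nat.card ↥(Subgroup.centralizer ({t} : Set G)) := by
      rw [← hg, ← show (fun u => g * u * g⁻¹) '' ({z} : Set G) = {g * z * g⁻¹} from Set.image_singleton,
        ← centralizer_map]
      exact (Subgroup.card_map_of_injective (f := (MulAut.conj g).toMonoidHom) (MulAut.conj g).injective).symm
    rw [← this, hcard] at h13
    norm_num at h13
  obtain ⟨ζ, hζ⟩ : z ∈ Ψ.range := hCt z htz.symm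
  have hζ2 : (ζ : G1) * ζ = 1 := congrArg Subtype.val (hΨinj (a₁ := ζ * ζ) (a₂ := 1) (by
    rw [map_mul, hζ, map_one, ← pow_two, ← hz, pow_orderOf_eq_one]))
  have hζ4 : IsProd D1 4 (ζ : G1) := by
    refine (hclass ζ hζ2 (fun e => ?_) ζ.2).resolve_left fun h => hne ?_
    · rw [show ζ = 1 from Subtype.ext e, map_one] at hζ
      rw [← hζ, orderOf_one] at hz
      omega
    · obtain ⟨g, hgD, hg⟩ := hlift (by norm_num) (by norm_num) h ht2
      rw [← hζ, ← htp]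
      exact Ψ.map_isConj (isConj_iff.2 ⟨⟨g, hgD⟩, Subtype.ext hg⟩)
  have hCz : ∀ c, Commute c z → c ∈ Ψ.range := by
    obtain ⟨Z, hZ⟩ : ∃ Z, Z = Subgroup.centralizer ({(ζ : G1)} : Set G1) := ⟨_, rfl⟩
    have hZm : ∀ {u}, u ∈ Z ↔ Commute u (ζ : G1) := fun {u} => by
      rw [hZ, Subgroup.mem_centralizer_singleton_iff]; rfl
    have hZ2 : ((D24 : Subgroup G1).subgroupOf Z).index = 2 := by
      obtain ⟨e, he, hev⟩ := hout (by norm_num) hζ4
      rw [Subgroup.index_eq_two_iff]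
      refine ⟨⟨e, hZm.2 hev⟩, fun b => ?_⟩
      simp only [Subgroup.mem_subgroupOf, Subgroup.coe_mul]
      rw [Subgroup.mul_mem_iff_of_index_two Cfsg.Agent.S1691.result]
      have := mem_out he
      by_cases hb : (b : G1) ∈ D24
      · exact Or.inr ⟨hb, fun h => this (h.1 hb)⟩
      · exact Or.inl ⟨iff_of_false hb this, hb⟩
    have hle : (Z.subgroupOf (D24 : Subgroup G1)).map Ψ ≤ Subgroup.centralizer ({z} : Set G) := by
      rintro _ ⟨u, hu, rfl⟩
      rw [Subgroup.mem_centralizer_singleton_iff, ← hζ]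
      exact ((show Commute u ζ from Subtype.ext (hZm.1 hu).eq).map Ψ).eq
    have hcZ : Nat.card ↥(Z.subgroupOf (D24 : Subgroup G1)) = Nat.card ↥((D24 : Subgroup G1).subgroupOf Z) :=
      Nat.card_congr
        { toFun := fun u => ⟨⟨_, u.2⟩, u.1.2⟩
          invFun := fun u => ⟨⟨_, u.2⟩, u.1.2⟩
          left_inv := fun _ => rfl
          right_inv := fun _ => rfl }
    have hge : Nat.card ↥(Subgroup.centralizer ({z} : Set G)) ≤
        Nat.card ↥((Z.subgroupOf (D24 : Subgroup G1)).map Ψ) := by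
      have h1 := Subgroup.card_mul_index ((D24 : Subgroup G1).subgroupOf Z)
      rw [hZ2, ← hcZ, show Nat.card ↥Z = _ from hZ ▸ K.card_prod_centralizer hζ4] at h1
      rw [Subgroup.card_map_of_injective hΨinj, hcard]
      norm_num at h1 ⊢
      omega
    intro c hc
    have := Subgroup.eq_of_le_of_card_ge hle hge
    obtain ⟨u, -, rfl⟩ : c ∈ (Z.subgroupOf (D24 : Subgroup G1)).map Ψ :=
      this.symm ▸ Subgroup.mem_centralizer_singleton_iff.2 hc
    exact ⟨u, rfl⟩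
  -- strong embedding
  have hrep : ∀ h ∈ Ψ.range, orderOf h = 2 → ∃ w, (w = t ∨ w = z) ∧ ∃ g ∈ Ψ.range, g * w * g⁻¹ = h := by
    rintro _ ⟨v, rfl⟩ h2
    have hv : v * v = 1 := hΨinj (by rw [map_mul, map_one, ← pow_two, ← h2, pow_orderOf_eq_one])
    have hc : IsProd D1 2 (v : G1) ∨ IsProd D1 4 (v : G1) :=
      hclass v (congrArg Subtype.val hv) (fun e => by
        rw [show v = 1 from Subtype.ext e, map_one, orderOf_one] at h2; omega) v.2
    rcases hc with h | h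
    · obtain ⟨g, hgD, hg⟩ := hlift (by norm_num) (by norm_num) ht2 h
      refine ⟨t, Or.inl rfl, Ψ ⟨g, hgD⟩, ⟨_, rfl⟩, ?_⟩
      rw [← htp, ← map_inv, ← map_mul, ← map_mul]
      exact congrArg Ψ (Subtype.ext hg)
    · obtain ⟨g, hgD, hg⟩ := hlift (by norm_num) le_rfl hζ4 h
      refine ⟨z, Or.inr rfl, Ψ ⟨g, hgD⟩, ⟨_, rfl⟩, ?_⟩
      rw [← hζ, ← map_inv, ← map_mul, ← map_mul]
      exact congrArg Ψ (Subtype.ext hg)
  have htop : Ψ.range = ⊤ := by
    by_contra hH'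
    have heven : Even (Nat.card Ψ.range) := by
      rw [even_iff_two_dvd, ← hz, show orderOf z = orderOf (⟨z, ⟨ζ, hζ⟩⟩ : ↥Ψ.range) from
        Subgroup.orderOf_coe (⟨z, ⟨ζ, hζ⟩⟩ : ↥Ψ.range)]
      exact orderOf_dvd_natCard _
    have hse : IsStronglyEmbedded Ψ.range :=
      (Lib.Invol.stronglyEmbedded_iff hH' heven).2 fun h hh hh2 k hk => by
        obtain ⟨w, hw, g, hg, eg⟩ := hrep _ hh hh2
        obtain ⟨w', hw', g', hg', eg'⟩ := hrep _ hk (by rw [Lib.Invol.orderOf_conj_eq, hh2])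
        rw [← eg] at eg'
        have hww : IsConj w w' := isConj_iff.2 ⟨g'⁻¹ * k * g, by
          rw [show g'⁻¹ * k * g * w * (g'⁻¹ * k * g)⁻¹ = g'⁻¹ * (k * (g * w * g⁻¹) * k⁻¹) * g' by group, ← eg']
          group⟩
        have e : w = w' := by
          rcases hw with rfl | rfl <;> rcases hw' with rfl | rfl
          exacts [rfl, absurd hww.symm hne, absurd hww hne, rfl]
        subst e
        have hc : Commute (g'⁻¹ * k * g) w := mul_inv_eq_iff_eq_mul.1 (by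
          rw [show g'⁻¹ * k * g * w * (g'⁻¹ * k * g)⁻¹ = g'⁻¹ * (k * (g * w * g⁻¹) * k⁻¹) * g' by group, ← eg']
          group)
        have h1 : g'⁻¹ * k * g ∈ Ψ.range := by
          rcases hw with rfl | rfl
          exacts [hCt _ hc, hCz _ hc]
        have := mul_mem (mul_mem hg' h1) (inv_mem hg)
        rwa [show g' * (g'⁻¹ * k * g) * g⁻¹ = k by group] at this
    exact hne (Lib.Invol.se_isConj hse hz (orderOf_eq_prime (by rw [pow_two, htt]) ht1))
  exact ⟨(MulEquiv.ofBijective Ψ ⟨hΨinj, MonoidHom.range_eq_top.1 htop⟩).symm⟩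

end Cfsg.Lib.Fischer.Fi24Simple
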